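import Cfsg.Agent.Golay.Basic
import Mathlib.GroupTheory.GroupAction.Quotient

/-!
Products of commuting involutions indexed by bit masks.
-/

set_option autoImplicit false

namespace CfsgLib.Co1Golay

open CfsgLib.Golay (comb comb_xor)

variable {G : Type*} [Group G]

/-- The product of the listed elements selected by the bits. -/
def ev : List G → ℕ → G
  | [], _ => 1
  | g :: L, c => (if c % 2 = 1 then g else 1) * ev L (c / 2)

theorem ev_zero : ∀ L : List G, ev L 0 = 1
  | [] => rfl
  | g :: L => by simp [ev, ev_zero L]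

theorem ev_two_pow : ∀ (L : List G) (i : ℕ) (hi : i < L.length), ev L (2 ^ i) = L[i]
  | [], i, hi => by simp at hi
  | g :: L, 0, _ => by simp [ev, ev_zero L]
  | g :: L, i + 1, hi => by
    have h1 : 2 ^ (i + 1) % 2 = 0 := by rw [pow_succ]; omega
    have h2 : 2 ^ (i + 1) / 2 = 2 ^ i := by rw [pow_succ]; omega
    simp [ev, h1, h2, ev_two_pow L i (by simpa using hi)]

theorem ev_mem {H : Subgroup G} : ∀ (L : List G), (∀ g ∈ L, g ∈ H) → ∀ c, ev L c ∈ H
  | [], _, _ => one_mem _
  | g :: L, h, c => mul_mem (by split_ifs <;> [exact h g List.mem_cons_self; exact one_mem _])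
      (ev_mem L (fun x hx => h x (List.mem_cons_of_mem _ hx)) _)

/-- Pairwise commuting involutions. -/
def InvList (L : List G) : Prop := (∀ g ∈ L, g * g = 1) ∧ ∀ g ∈ L, ∀ g' ∈ L, g * g' = g' * g

theorem InvList.tail {g : G} {L : List G} (h : InvList (g :: L)) : InvList L :=
  ⟨fun x hx => h.1 x (List.mem_cons_of_mem _ hx),
    fun x hx y hy => h.2 x (List.mem_cons_of_mem _ hx) y (List.mem_cons_of_mem _ hy)⟩

theorem ev_comm {x : G} : ∀ (L : List G), (∀ g ∈ L, x * g = g * x) → ∀ c, x * ev L c = ev L c * x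
  | [], _, _ => by simp [ev]
  | g :: L, h, c => by
    have h1 : Commute x (if c % 2 = 1 then g else 1) := by
      split_ifs
      exacts [h g List.mem_cons_self, Commute.one_right x]
    exact (h1.mul_right (show Commute x (ev L (c / 2)) from
      ev_comm L (fun y hy => h y (List.mem_cons_of_mem _ hy)) _)).eq

theorem ev_xor : ∀ (L : List G), InvList L → ∀ a b, ev L (a ^^^ b) = ev L a * ev L b
  | [], _, _, _ => by simp [ev]
  | g :: L, h, a, b => by
    have hg : g * g = 1 := h.1 g List.mem_cons_self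
    have hc : ∀ c, g * ev L c = ev L c * g :=
      ev_comm L fun y hy => h.2 g List.mem_cons_self y (List.mem_cons_of_mem _ hy)
    have h1 : (if (a ^^^ b) % 2 = 1 then g else 1) = (if a % 2 = 1 then g else 1) * (if b % 2 = 1 then g else 1) := by
      by_cases ha : a % 2 = 1 <;> by_cases hb : b % 2 = 1
      · rw [if_pos ha, if_pos hb, if_neg (fun e => Nat.xor_mod_two_eq_one.1 e (iff_of_true ha hb)), hg]
      · rw [if_pos ha, if_neg hb, if_pos (Nat.xor_mod_two_eq_one.2 (fun e => hb (e.1 ha))), mul_one]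
      · rw [if_neg ha, if_pos hb, if_pos (Nat.xor_mod_two_eq_one.2 (fun e => ha (e.2 hb))), one_mul]
      · rw [if_neg ha, if_neg hb, if_neg (fun e => Nat.xor_mod_two_eq_one.1 e (iff_of_false ha hb)), one_mul]
    have h2 : (if b % 2 = 1 then g else 1) * ev L (a / 2) = ev L (a / 2) * (if b % 2 = 1 then g else 1) := by
      split_ifs <;> simp [hc]
    simp only [ev, h1, Nat.xor_div_two, ev_xor L h.tail]
    calc _ = (if a % 2 = 1 then g else 1) * ((if b % 2 = 1 then g else 1) * ev L (a / 2)) * ev L (b / 2) := by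
          simp only [mul_assoc]
      _ = _ := by rw [h2]; simp only [mul_assoc]

theorem ev_sq {L : List G} (h : InvList L) (a : ℕ) : ev L a * ev L a = 1 := by
  rw [← ev_xor L h, Nat.xor_self, ev_zero]

/-- The range as a subgroup. -/
def evGroup (L : List G) (h : InvList L) : Subgroup G where
  carrier := Set.range (ev L)
  one_mem' := ⟨0, ev_zero L⟩
  mul_mem' := by
    rintro _ _ ⟨a, rfl⟩ ⟨b, rfl⟩
    exact ⟨a ^^^ b, ev_xor L h a b⟩
  inv_mem' := by
    rintro _ ⟨a, rfl⟩
    exact ⟨a, (inv_eq_of_mul_eq_one_right (ev_sq h a)).symm⟩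

theorem mem_evGroup {L : List G} (h : InvList L) {x : G} : x ∈ evGroup L h ↔ ∃ a, ev L a = x := Iff.rfl

theorem ev_mod : ∀ (L : List G) (a : ℕ), ev L (a % 2 ^ L.length) = ev L a
  | [], _ => rfl
  | g :: L, a => by
    have h1 : a % 2 ^ (g :: L).length % 2 = a % 2 := by
      rw [List.length_cons, pow_succ, mul_comm, Nat.mod_mul_right_mod]
    have h2 : a % 2 ^ (g :: L).length / 2 = a / 2 % 2 ^ L.length := by
      rw [List.length_cons, pow_succ, mul_comm, Nat.mod_mul_right_div_self]
    rw [ev, ev, h1, h2, ev_mod L]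

theorem exists_lt {L : List G} {x : G} (h : ∃ a, ev L a = x) : ∃ a < 2 ^ L.length, ev L a = x := by
  obtain ⟨a, rfl⟩ := h
  exact ⟨a % 2 ^ L.length, Nat.mod_lt _ (Nat.two_pow_pos _), ev_mod L a⟩

theorem conj_ev {L : List G} (hL : InvList L) {x : G} : ∀ (L' : List G) (M : List ℕ),
    List.Forall₂ (fun g m => x * g * x⁻¹ = ev L m) L' M →
      ∀ c, x * ev L' c * x⁻¹ = ev L (comb M c)
  | _, _, List.Forall₂.nil, c => by simp [ev, comb, ev_zero]
  | _, _, List.Forall₂.cons (a := g) (b := m) (l₁ := L') (l₂ := M) hgm h, c => by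
    have ih := conj_ev hL L' M h (c / 2)
    rw [ev, comb, ev_xor L hL, ← ih, show x * ((if c % 2 = 1 then g else 1) * ev L' (c / 2)) * x⁻¹ =
      (x * (if c % 2 = 1 then g else 1) * x⁻¹) * (x * ev L' (c / 2) * x⁻¹) by group]
    congr 1
    split_ifs
    · exact hgm
    · rw [mul_one, mul_inv_cancel, ev_zero]

end CfsgLib.Co1Golay
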