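import Cfsg.Agent.S5549

/-!
Automorphisms of the length 24 code fixing the all-ones word and preserving the words of weight eight
and sixteen come from the Mathieu group, uniquely modulo that word.
-/

set_option autoImplicit false

namespace CfsgLib.Co1Golay

open Cfsg CfsgLib.Golay Finset
open Cfsg.Agent.S5549

theorem exists_perm_of_code (x : Code ≃ₗ[ZMod 2] Code) (hone : x ⟨_, one_mem⟩ = ⟨_, one_mem⟩)
    (hnorm : ∀ c : Code, (hammingNorm ((x c : Code) : GolayPt → ZMod 2) = 8 ∨
      hammingNorm ((x c : Code) : GolayPt → ZMod 2) = 16) ↔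
      (hammingNorm (c : GolayPt → ZMod 2) = 8 ∨ hammingNorm (c : GolayPt → ZMod 2) = 16)) :
    ∃ σ ∈ Cfsg.M24, ∀ c : Code, ∃ k : ZMod 2, ∀ p,
      ((x c : Code) : GolayPt → ZMod 2) p = (c : GolayPt → ZMod 2) (σ.symm p) + k := by
  have hcnt : ∀ f : Code →ₗ[ZMod 2] ZMod 2, cnt (f.comp x.toLinearMap) = cnt f := by
    intro f
    refine Set.ncard_congr (fun c _ => x c) (fun c hc => ⟨(hnorm c).mpr hc.1, hc.2⟩)
      (fun a b _ _ h => x.injective h) fun d hd =>
        ⟨x.symm d, ⟨(hnorm _).mp (by simpa using hd.1), by simpa using hd.2⟩, by simp⟩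
  have hpull : ∀ T : Finset GolayPt, T.card = 2 →
      ∃ U : Finset GolayPt, U.card = 2 ∧ (sumEv T).comp x.toLinearMap = sumEv U := by
    intro T hT
    refine duad_of_cnt _ ?_ (by rw [hcnt, cnt_card_two hT])
    show sumEv T (x ⟨_, one_mem⟩) = 0
    rw [hone, sumEv_one, hT]; decide
  choose! F hF2 hFe using hpull
  have hinj : ∀ T U : Finset GolayPt, T.card = 2 → U.card = 2 → F T = F U → T = U :=
    fun T U hT hU h => duad_inj hT hU <| LinearMap.ext fun c => by
      have := LinearMap.congr_fun ((hFe T hT).trans ((congrArg sumEv h).trans (hFe U hU).symm))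
        (x.symm c)
      simpa using this
  obtain ⟨τ, hτ⟩ := pairMap_point (by rw [CfsgLib.Golay.card_golayPt]; norm_num) F hF2 hinj
    (fun T U hT hU hne => by
      rw [meet_iff hT hU hne, meet_iff (hF2 T hT) (hF2 U hU) (fun h => hne (hinj T U hT hU h)),
        ← hFe T hT, ← hFe U hU, ← LinearMap.add_comp, hcnt])
  have hk : ∀ c : Code, ∃ k : ZMod 2, ∀ p,
      ((x c : Code) : GolayPt → ZMod 2) p = (c : GolayPt → ZMod 2) (τ p) + k := by
    intro c
    refine ⟨((x c : Code) : GolayPt → ZMod 2) none + (c : GolayPt → ZMod 2) (τ none), fun p => ?_⟩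
    by_cases hp : p = none
    · subst hp
      generalize ((x c : Code) : GolayPt → ZMod 2) none = a
      generalize (c : GolayPt → ZMod 2) (τ none) = b
      revert a b; decide
    have h2 := LinearMap.congr_fun (hFe {p, none} (Finset.card_pair hp)) c
    rw [hτ p none hp, LinearMap.comp_apply, sumEv_apply, sumEv_apply, Finset.sum_pair hp,
      Finset.sum_pair (τ.injective.ne hp)] at h2
    revert h2
    simp only [LinearEquiv.coe_coe]
    generalize ((x c : Code) : GolayPt → ZMod 2) p = a
    generalize ((x c : Code) : GolayPt → ZMod 2) none = b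
    generalize (c : GolayPt → ZMod 2) (τ p) = d
    generalize (c : GolayPt → ZMod 2) (τ none) = e
    revert a b d e; decide
  refine ⟨τ.symm, mem_M24_of_code_map fun w hw => ?_, fun c => by simpa using hk c⟩
  obtain ⟨k, hk⟩ := hk ⟨w, hw⟩
  have : (fun p => w (τ p)) = ((x ⟨w, hw⟩ : Code) : GolayPt → ZMod 2) + fun _ => k := by
    funext p
    rw [Pi.add_apply, hk p, add_assoc, CharTwo.add_self_eq_zero, add_zero]
  rw [show (fun p => w (τ.symm.symm p)) = fun p => w (τ p) by simp, this]
  refine Submodule.add_mem _ (x ⟨w, hw⟩).2 ?_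
  rcases (by decide : ∀ k : ZMod 2, k = 0 ∨ k = 1) k with rfl | rfl
  exacts [Submodule.zero_mem _, one_mem]

/-- A permutation trivial on the code modulo the all-ones word is trivial. -/
theorem perm_eq_one {σ : Equiv.Perm GolayPt}
    (h : ∀ w ∈ Cfsg.golayCode, ∃ k : ZMod 2, ∀ p, w (σ p) = w p + k) : σ = 1 := by
  have hpair : ∀ a b : GolayPt, a ≠ b → ({σ a, σ b} : Finset GolayPt) = {a, b} := by
    intro a b hab
    refine duad_inj (Finset.card_pair (σ.injective.ne hab)) (Finset.card_pair hab) (LinearMap.ext fun c => ?_)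
    obtain ⟨k, hk⟩ := h c c.2
    rw [sumEv_apply, sumEv_apply, Finset.sum_pair (σ.injective.ne hab), Finset.sum_pair hab, hk, hk,
      add_add_add_comm, CharTwo.add_self_eq_zero, add_zero]
  refine Equiv.ext fun a => ?_
  obtain ⟨b, hb⟩ := Finset.card_pos.mp (show 0 < ((Finset.univ : Finset GolayPt).erase a).card by
    rw [Finset.card_erase_of_mem (Finset.mem_univ a), Finset.card_univ, CfsgLib.Golay.card_golayPt]; norm_num)
  obtain ⟨c, hc⟩ := Finset.card_pos.mp (show 0 < (((Finset.univ : Finset GolayPt).erase a).erase b).card by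
    rw [Finset.card_erase_of_mem hb, Finset.card_erase_of_mem (Finset.mem_univ a), Finset.card_univ,
      CfsgLib.Golay.card_golayPt]
    norm_num)
  simp only [Finset.mem_erase, Finset.mem_univ, and_true] at hb hc
  have h1 : σ a ∈ ({a, b} : Finset GolayPt) := hpair a b hb.symm ▸ by simp
  have h2 : σ a ∈ ({a, c} : Finset GolayPt) := hpair a c hc.2.symm ▸ by simp
  simp only [Finset.mem_insert, Finset.mem_singleton] at h1 h2
  rcases h1 with h1 | h1 <;> rcases h2 with h2 | h2 <;> simp_all

end CfsgLib.Co1Golay
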