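import Cfsg.Agent.Co1Golay.Orbit
import Cfsg.Agent.Co1Golay.CodeAut
import Cfsg.Agent.Golay.Dodecad

/-!
The normaliser of the elementary subgroup induces the Mathieu group on it.
-/

set_option autoImplicit false
set_option maxRecDepth 100000
set_option synthInstance.maxSize 4096
set_option linter.style.haveILetI false
set_option linter.unusedSectionVars false

namespace CfsgLib.Co1Golay

open CfsgLib CfsgLib.Quad CfsgLib.Co1Invol Subgroup
open CfsgLib.Golay (comb comb_xor word vec vec_xor wt pts vec_word_mem word_mod word_lt vec_inj)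
open scoped Pointwise

/-- The images of the basis in the coordinates of the code. -/
def codeImgs : List ℕ := [1, 150, 372, 568, 1306, 352, 552, 1288, 364, 604, 1638]

/-- Inverse: the mask. -/
def maskImgs : List ℕ := [1, 216, 108, 332, 72, 1108, 1584, 254, 580, 1368, 904, 1983]

/-- Inverse: the multiple of the all-ones word. -/
def oneImgs : List ℕ := [0, 0, 0, 0, 0, 0, 0, 0, 0, 0, 0, 1]

/-- The codeword of a mask. -/
def cWord (m : ℕ) : ℕ := word (comb codeImgs m)

/-- The codeword as a function. -/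
def V (m : ℕ) : Cfsg.GolayPt → ZMod 2 := vec (cWord m)

theorem V_mem (m : ℕ) : V m ∈ Cfsg.golayCode := vec_word_mem _

theorem V_xor (a b : ℕ) : V (a ^^^ b) = V a + V b := by
  rw [V, cWord, comb_xor, word, comb_xor, vec_xor]; rfl

theorem one_word : word 4095 = 16777215 ∧ CfsgLib.Golay.genMasks.getD 23 0 = 16777215 := by decide +kernel

theorem one_vec : vec (word 4095) = (1 : Cfsg.GolayPt → ZMod 2) := by
  rw [CfsgLib.Golay.one_eq, one_word.1, one_word.2]

theorem code_coords : ∀ a < 64, ∀ b < 64, comb maskImgs (64 * a + b) < 2048 ∧ comb oneImgs (64 * a + b) < 2 ∧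
    comb codeImgs (comb maskImgs (64 * a + b)) ^^^ (4095 * comb oneImgs (64 * a + b)) = 64 * a + b := by
  decide +kernel

theorem exists_coords {w : Cfsg.GolayPt → ZMod 2} (hw : w ∈ Cfsg.golayCode) :
    ∃ m < 2048, ∃ k : ZMod 2, ∀ p, w p = V m p + k := by
  obtain ⟨c, hc, rfl⟩ := (CfsgLib.Golay.mem_code_iff w).1 hw
  obtain ⟨h1, h2, h3⟩ := CfsgLib.Golay.forall_lt_4096 (P := fun c => comb maskImgs c < 2048 ∧
    comb oneImgs c < 2 ∧ comb codeImgs (comb maskImgs c) ^^^ (4095 * comb oneImgs c) = c) code_coords c hc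
  refine ⟨_, h1, (comb oneImgs c : ZMod 2), fun p => ?_⟩
  conv_lhs => rw [← h3, word, comb_xor, vec_xor, Pi.add_apply]
  show V _ p + _ = _
  congr 1
  interval_cases hk : comb oneImgs c
  · rw [mul_zero, show comb CfsgLib.Golay.rows 0 = 0 by decide +kernel, CfsgLib.Golay.vec_zero]; simp
  · rw [mul_one, show comb CfsgLib.Golay.rows 4095 = word 4095 from rfl, one_vec]; simp

theorem imgs_indep : ∀ a < 64, ∀ b < 32, comb codeImgs (32 * a + b) < 4096 ∧
    comb codeImgs (32 * a + b) ≠ 4095 ∧ (comb codeImgs (32 * a + b) = 0 → 32 * a + b = 0) := by decide +kernel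

theorem two_level {P : ℕ → Prop} (h : ∀ a < 64, ∀ b < 32, P (32 * a + b)) {m : ℕ} (hm : m < 2048) : P m := by
  have := h (m / 32) (by omega) (m % 32) (Nat.mod_lt _ (by norm_num))
  rwa [Nat.div_add_mod] at this

theorem V_inj {a b : ℕ} (ha : a < 2048) (hb : b < 2048) {k : ZMod 2} (h : ∀ p, V a p = V b p + k) :
    a = b ∧ k = 0 := by
  have hlt : a ^^^ b < 2048 := Nat.xor_lt_two_pow (n := 11) ha hb
  have hV : ∀ p, V (a ^^^ b) p = k := fun p => by
    rw [V_xor, Pi.add_apply, h p, add_comm (V b p), add_assoc, CharTwo.add_self_eq_zero, add_zero]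
  obtain ⟨h1, h2, h3⟩ := two_level (P := fun m => comb codeImgs m < 4096 ∧ comb codeImgs m ≠ 4095 ∧
    (comb codeImgs m = 0 → m = 0)) imgs_indep hlt
  have hinj : ∀ {c d}, c < 4096 → d < 4096 → vec (word c) = vec (word d) → c = d := fun {c d} hc hd he => by
    rw [← word_mod c hc, ← word_mod d hd, vec_inj (word_lt c hc) (word_lt d hd) he]
  rcases (by decide : ∀ k : ZMod 2, k = 0 ∨ k = 1) k with rfl | rfl
  · refine ⟨Nat.xor_eq_zero_iff.1 (h3 (hinj h1 (by norm_num) (funext fun p => (hV p).trans ?_))), rfl⟩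
    rw [show word 0 = 0 by decide +kernel, CfsgLib.Golay.vec_zero]; rfl
  · exact absurd (hinj h1 (by norm_num) (funext fun p => (hV p).trans (by rw [one_vec]; rfl))) h2

theorem weights : ∀ a < 64, ∀ b < 32,
    (octSet.testBit (32 * a + b) = true ↔ wt 24 (cWord (32 * a + b)) = 8 ∨ wt 24 (cWord (32 * a + b)) = 16) ∧
      (dodSet.testBit (32 * a + b) = true ↔ wt 24 (cWord (32 * a + b)) = 12) := by
  decide +kernel

theorem disjoint_sets : ∀ a < 64, ∀ b < 32, ¬ (octSet.testBit (32 * a + b) = true ∧ dodSet.testBit (32 * a + b) = true) ∧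
    (32 * a + b = 0 → octSet.testBit (32 * a + b) = false) := by
  decide +kernel

theorem oct_count : ((List.range 2048).filter fun m => octSet.testBit m).length = 759 := by decide +kernel

theorem norm_V (m : ℕ) : hammingNorm (V m) = wt 24 (cWord m) := by
  rw [CfsgLib.Golay.hammingNorm_eq, V, CfsgLib.Golay.support_vec, CfsgLib.Golay.card_pts]

theorem norm_shift (k : ZMod 2) {w w' : Cfsg.GolayPt → ZMod 2} (h : ∀ p, w p = w' p + k) :
    (hammingNorm w = 8 ∨ hammingNorm w = 16) ↔ (hammingNorm w' = 8 ∨ hammingNorm w' = 16) := by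
  rcases (by decide : ∀ k : ZMod 2, k = 0 ∨ k = 1) k with rfl | rfl
  · rw [show w = w' from funext fun p => by rw [h p, add_zero]]
  · have h2 := Cfsg.Agent.S5549.norm_add_one w'
    rw [show w = w' + fun _ => 1 from funext h]
    omega

variable {G : Type*} [Group G] [Finite G] {z : G} {D : Dat z} {B : Base D}
variable (St : Pr B w2 v2) (Su : Pr B x1 x2)

/-- A permutation induced by an element of the normaliser. -/
def Rel (B : Base D) (n : G) (σ : Equiv.Perm Cfsg.GolayPt) : Prop :=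
  ∀ m < 2048, ∀ m' < 2048, n * phi B m * n⁻¹ = phi B m' → ∃ k : ZMod 2, ∀ p, V m' p = V m (σ.symm p) + k

theorem conj_phi (hB : Good B) {n : G} (hn : n ∈ normalizer (Ab B hB : Set G)) (m : ℕ) :
    ∃ m' < 2048, n * phi B m * n⁻¹ = phi B m' := by
  obtain ⟨m', hm', he⟩ := mem_Ab.1 ((mem_normalizer_iff.1 hn _).1 (phi_mem hB m))
  exact ⟨m', hm', he.symm⟩

theorem oct_conj {hB : Good B} {n : G} (hn : n ∈ normalizer (Ab B hB : Set G)) {m m' : ℕ}
    (he : n * phi B m * n⁻¹ = phi B m') : IsConj z (phi B m) ↔ IsConj z (phi B m') :=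
  ⟨fun h => h.trans (isConj_iff.2 ⟨n, he⟩), fun h => h.trans (isConj_iff.2 ⟨n, he⟩).symm⟩

include St Su in
theorem bit_iff (hB : Good B) {m : ℕ} (hm : m < 2048) (hm0 : m ≠ 0) :
    (octSet.testBit m = true ↔ IsConj z (phi B m)) ∧ (octSet.testBit m = false → dodSet.testBit m = true) := by
  have hd := two_level (P := fun m => ¬ (octSet.testBit m = true ∧ dodSet.testBit m = true) ∧
    (m = 0 → octSet.testBit m = false)) disjoint_sets hm
  rcases classify St Su hB hm hm0 with ⟨h1, h2⟩ | ⟨h1, h2⟩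
  · exact ⟨⟨fun _ => isConj_of_oct h2, fun _ => h1⟩, fun h => absurd h1 (by simp [h])⟩
  · exact ⟨⟨fun h => absurd ⟨h, h1⟩ hd.1, fun h => absurd h h2⟩, fun _ => h1⟩

include St Su in
theorem exists_rel (hB : Good B) {n : G} (hn : n ∈ normalizer (Ab B hB : Set G)) :
    ∃ σ ∈ Cfsg.M24, Rel B n σ := by
  classical
  choose M hM hMe using fun m => conj_phi hB hn m
  have hMx : ∀ a b, M (a ^^^ b) = M a ^^^ M b := fun a b => by
    refine phi_inj hB (hM _) (Nat.xor_lt_two_pow (n := 11) (hM a) (hM b)) ?_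
    rw [phi_xor hB, ← hMe, ← hMe, ← hMe, phi_xor hB]
    group
  have hM0 : ∀ {m}, m < 2048 → M m = 0 → m = 0 := fun {m} hm h => phi_eq_one hB hm (by
    have := hMe m
    rw [h, show phi B 0 = 1 from ev_zero _, conj_eq_one_iff] at this
    exact this)
  let e : ZMod 2 × {m : ℕ // m < 2048} → Cfsg.Agent.S5549.Code := fun p =>
    ⟨V p.2.1 + fun _ => p.1, Submodule.add_mem _ (V_mem _) (by
      rcases (by decide : ∀ k : ZMod 2, k = 0 ∨ k = 1) p.1 with h | h <;> rw [h]
      exacts [Submodule.zero_mem _, Cfsg.Agent.S5549.one_mem])⟩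
  have he : Function.Bijective e := by
    refine ⟨fun p q h => ?_, fun w => ?_⟩
    · have h' : ∀ x, V p.2.1 x = V q.2.1 x + (q.1 + p.1) := fun x => by
        have := congrFun (congrArg Subtype.val h) x
        simp only [e, Pi.add_apply] at this
        rw [← add_assoc, ← this, add_assoc, CharTwo.add_self_eq_zero, add_zero]
      obtain ⟨h1, h2⟩ := V_inj p.2.2 q.2.2 h'
      exact Prod.ext (CharTwo.add_eq_zero.1 h2).symm (Subtype.ext h1)
    · obtain ⟨m, hm, k, hk⟩ := exists_coords w.2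
      exact ⟨(k, ⟨m, hm⟩), Subtype.ext (funext fun x => by simp only [e, Pi.add_apply, hk x])⟩
  let E := Equiv.ofBijective e he
  let f : Cfsg.Agent.S5549.Code → Cfsg.Agent.S5549.Code := fun w =>
    e ((E.symm w).1, ⟨M (E.symm w).2.1, hM _⟩)
  have hfe : ∀ p, f (e p) = e (p.1, ⟨M p.2.1, hM _⟩) := fun p => by
    simp only [f, E, Equiv.ofBijective_symm_apply_apply]
  have hadd : ∀ v w, f (v + w) = f v + f w := by
    intro v w
    obtain ⟨p, rfl⟩ := he.2 v
    obtain ⟨q, rfl⟩ := he.2 w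
    have hs : ∀ (a b : ℕ) (s t : ZMod 2),
        ((V a + fun _ => s) + (V b + fun _ => t) : Cfsg.GolayPt → ZMod 2) = V (a ^^^ b) + fun _ => s + t := by
      intro a b s t; funext x; simp only [Pi.add_apply, V_xor]; ring
    have hpq : e p + e q = e (p.1 + q.1, ⟨p.2.1 ^^^ q.2.1, Nat.xor_lt_two_pow (n := 11) p.2.2 q.2.2⟩) :=
      Subtype.ext (hs _ _ _ _)
    rw [hpq, hfe, hfe, hfe]
    refine Subtype.ext ?_
    show V (M (p.2.1 ^^^ q.2.1)) + (fun _ => p.1 + q.1) =
      (V (M p.2.1) + fun _ => p.1) + (V (M q.2.1) + fun _ => q.1)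
    rw [hs, hMx]
  let fl : Cfsg.Agent.S5549.Code →ₗ[ZMod 2] Cfsg.Agent.S5549.Code :=
    (AddMonoidHom.mk' f hadd).toZModLinearMap 2
  have hfl : Function.Bijective fl := by
    refine ⟨?_, ?_⟩
    · intro v w h
      obtain ⟨p, rfl⟩ := he.2 v
      obtain ⟨q, rfl⟩ := he.2 w
      have h' : e (p.1, ⟨M p.2.1, hM _⟩) = e (q.1, ⟨M q.2.1, hM _⟩) := (hfe p).symm.trans (h.trans (hfe q))
      have h2 := he.1 h'
      simp only [Prod.mk.injEq, Subtype.mk.injEq] at h2
      refine congrArg e (Prod.ext h2.1 (Subtype.ext (Nat.xor_eq_zero_iff.1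
        (hM0 (Nat.xor_lt_two_pow (n := 11) p.2.2 q.2.2) ?_))))
      rw [hMx, h2.2, Nat.xor_self]
    · haveI : Finite Cfsg.Agent.S5549.Code := inferInstance
      refine Finite.surjective_of_injective ?_
      intro v w h
      obtain ⟨p, rfl⟩ := he.2 v
      obtain ⟨q, rfl⟩ := he.2 w
      have h' : e (p.1, ⟨M p.2.1, hM _⟩) = e (q.1, ⟨M q.2.1, hM _⟩) := (hfe p).symm.trans (h.trans (hfe q))
      have h2 := he.1 h'
      simp only [Prod.mk.injEq, Subtype.mk.injEq] at h2
      refine congrArg e (Prod.ext h2.1 (Subtype.ext (Nat.xor_eq_zero_iff.1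
        (hM0 (Nat.xor_lt_two_pow (n := 11) p.2.2 q.2.2) ?_))))
      rw [hMx, h2.2, Nat.xor_self]
  have h00 : M 0 = 0 := by
    have := hMx 0 0
    rwa [Nat.xor_self, Nat.xor_self] at this
  have hV0 : V 0 = 0 := by
    have := V_xor 0 0
    rw [Nat.xor_self] at this
    rw [this]
    exact funext fun x => CharTwo.add_self_eq_zero _
  obtain ⟨σ, hσ, hk⟩ := exists_perm_of_code (LinearEquiv.ofBijective fl hfl) (by
      have h1 : (⟨_, Cfsg.Agent.S5549.one_mem⟩ : Cfsg.Agent.S5549.Code) = e (1, ⟨0, by norm_num⟩) :=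
        Subtype.ext (by simp only [e, hV0, zero_add])
      show f _ = _
      rw [h1, hfe]
      simp only [h00]) (fun w => by
      obtain ⟨p, rfl⟩ := he.2 w
      show (hammingNorm ((f (e p) : Cfsg.Agent.S5549.Code) : Cfsg.GolayPt → ZMod 2) = 8 ∨
        hammingNorm ((f (e p) : Cfsg.Agent.S5549.Code) : Cfsg.GolayPt → ZMod 2) = 16) ↔ _
      rw [hfe]
      show (hammingNorm (V (M p.2.1) + fun _ => p.1) = 8 ∨ hammingNorm (V (M p.2.1) + fun _ => p.1) = 16) ↔
        (hammingNorm (V p.2.1 + fun _ => p.1) = 8 ∨ hammingNorm (V p.2.1 + fun _ => p.1) = 16)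
      rw [norm_shift p.1 (w := V (M p.2.1) + fun _ => p.1) (w' := V (M p.2.1)) (fun x => rfl),
        norm_shift p.1 (w := V p.2.1 + fun _ => p.1) (w' := V p.2.1) (fun x => rfl),
        norm_V, norm_V]
      have w1 := (two_level (P := fun m => (octSet.testBit m = true ↔ wt 24 (cWord m) = 8 ∨ wt 24 (cWord m) = 16) ∧
        (dodSet.testBit m = true ↔ wt 24 (cWord m) = 12)) weights (hM p.2.1)).1
      have w2 := (two_level (P := fun m => (octSet.testBit m = true ↔ wt 24 (cWord m) = 8 ∨ wt 24 (cWord m) = 16) ∧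
        (dodSet.testBit m = true ↔ wt 24 (cWord m) = 12)) weights p.2.2).1
      rw [← w1, ← w2]
      by_cases hp : p.2.1 = 0
      · rw [hp, h00]
      have hp' : M p.2.1 ≠ 0 := fun h => hp (hM0 p.2.2 h)
      rw [(bit_iff St Su hB (hM _) hp').1, (bit_iff St Su hB p.2.2 hp).1]
      exact (oct_conj hn (hMe _)).symm)
  refine ⟨σ, hσ, fun m hm m' hm' he' => ?_⟩
  have hmm : m' = M m := phi_inj hB hm' (hM m) (he'.symm.trans (hMe m))
  obtain ⟨k, hk⟩ := hk (e (0, ⟨m, hm⟩))
  refine ⟨k, fun x => ?_⟩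
  have h := hk x
  have h' : ((f (e (0, ⟨m, hm⟩)) : Cfsg.Agent.S5549.Code) : Cfsg.GolayPt → ZMod 2) x = V (M m) x + 0 := by
    rw [hfe]; rfl
  rw [hmm, ← add_zero (V (M m) x), ← h']
  exact h.trans (by simp only [e, Pi.add_apply, add_zero])

theorem rel_unique (hB : Good B) {n : G} (hn : n ∈ normalizer (Ab B hB : Set G))
    {σ σ' : Equiv.Perm Cfsg.GolayPt} (h : Rel B n σ) (h' : Rel B n σ') : σ = σ' := by
  suffices h1 : σ⁻¹ * σ' = 1 from inv_mul_eq_one.1 h1
  refine perm_eq_one fun w hw => ?_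
  obtain ⟨m, hm, k, hk⟩ := exists_coords hw
  obtain ⟨m', hm', he⟩ := conj_phi hB hn m
  obtain ⟨k1, h1⟩ := h m hm m' hm' he
  obtain ⟨k2, h2⟩ := h' m hm m' hm' he
  refine ⟨k2 + k1, fun p => ?_⟩
  have e1 := h1 (σ' p)
  have e2 := h2 (σ' p)
  rw [Equiv.symm_apply_apply] at e2
  rw [e2] at e1
  rw [hk, hk]
  show V m (σ.symm (σ' p)) + k = _
  have e3 : V m (σ.symm (σ' p)) = V m p + (k2 + k1) := by
    rw [← add_assoc, e1, add_assoc, CharTwo.add_self_eq_zero, add_zero]
  rw [e3]; ring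

theorem rel_mul (hB : Good B) {n n' : G} (hn' : n' ∈ normalizer (Ab B hB : Set G))
    {σ σ' : Equiv.Perm Cfsg.GolayPt} (h : Rel B n σ) (h' : Rel B n' σ') : Rel B (n * n') (σ * σ') := by
  intro m hm m'' hm'' he
  obtain ⟨m', hm', he'⟩ := conj_phi hB hn' m
  obtain ⟨k, hk⟩ := h m' hm' m'' hm'' (by rw [← he, ← he']; group)
  obtain ⟨k', hk'⟩ := h' m hm m' hm' he'
  refine ⟨k' + k, fun p => ?_⟩
  rw [hk, hk', add_assoc]
  rfl

include St Su in
/-- The action on the code. -/
theorem exists_hom (hB : Good B) : ∃ θ : ↥(normalizer (Ab B hB : Set G)) →* ↥Cfsg.M24,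
    ∀ n : ↥(normalizer (Ab B hB : Set G)), Rel B (n : G) ((θ n : Cfsg.M24) : Equiv.Perm Cfsg.GolayPt) := by
  choose σ hσ hr using fun n : ↥(normalizer (Ab B hB : Set G)) => exists_rel St Su hB n.2
  exact ⟨MonoidHom.mk' (fun n => (⟨σ n, hσ n⟩ : ↥Cfsg.M24)) fun a b =>
    Subtype.ext (rel_unique hB (a * b).2 (hr (a * b)) (rel_mul hB b.2 (hr a) (hr b))), hr⟩

theorem ker_subset (hB : Good B) {n : G} (hn : n ∈ normalizer (Ab B hB : Set G)) (h : Rel B n 1) :
    n ∈ Ab B hB := by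
  refine centralizer_Ab hB fun x hx => ?_
  obtain ⟨m, hm, rfl⟩ := mem_Ab.1 hx
  obtain ⟨m', hm', he⟩ := conj_phi hB hn m
  obtain ⟨k, hk⟩ := h m hm m' hm' he
  rw [(V_inj hm' hm (fun p => by exact hk p)).1] at he
  exact mul_inv_eq_iff_eq_mul.1 he

include St Su in
theorem card_normalizer_ge (hB : Good B) :
    759 * (2048 * 322560) ≤ Nat.card ↥(normalizer (Ab B hB : Set G)) := by
  classical
  set NC := normalizer (Ab B hB : Set G) ⊓ centralizer ({z} : Set G) with hNC
  let O := ((List.range 2048).filter fun m => octSet.testBit m).toFinset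
  have hO : ∀ m : O, (m : ℕ) < 2048 ∧ Oct B hB m := by
    rintro ⟨m, hm⟩
    simp only [O, List.mem_toFinset, List.mem_filter, List.mem_range] at hm
    obtain ⟨hd1, hd2⟩ := two_level (P := fun m => ¬ (octSet.testBit m = true ∧ dodSet.testBit m = true) ∧
      (m = 0 → octSet.testBit m = false)) disjoint_sets hm.1
    refine ⟨hm.1, ?_⟩
    rcases classify St Su hB hm.1 (fun e => by simp [hd2 e] at hm) with h | h
    exacts [h.2, absurd ⟨hm.2, h.1⟩ hd1]
  choose n hn hne using fun m : O => (hO m).2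
  let f : O × NC → ↥(normalizer (Ab B hB : Set G)) := fun p =>
    ⟨n p.1 * p.2, mul_mem (hn p.1) (mem_inf.1 p.2.2).1⟩
  have hf : Function.Injective f := by
    rintro ⟨m, t, ht⟩ ⟨m', t', ht'⟩ e
    have e' : n m * t = n m' * t' := congrArg Subtype.val e
    have hfix : ∀ {t : G}, t ∈ NC → t * z * t⁻¹ = z := fun ht => by
      rw [mem_centralizer_singleton_iff.1 (mem_inf.1 ht).2, mul_inv_cancel_right]
    have h1 : ∀ {m : O} {t : G}, t ∈ NC → n m * t * z * (n m * t)⁻¹ = phi B m := fun {m t} ht => by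
      rw [show n m * t * z * (n m * t)⁻¹ = n m * (t * z * t⁻¹) * (n m)⁻¹ by group, hfix ht, hne]
    have h2 : (m : ℕ) = m' := phi_inj hB (hO m).1 (hO m').1 (by rw [← h1 ht, e', h1 ht'])
    obtain rfl := Subtype.ext h2
    obtain rfl := mul_left_cancel e'
    rfl
  refine le_trans ?_ (Nat.card_le_card_of_injective f hf)
  rw [Nat.card_prod, Nat.card_eq_fintype_card (α := O), Fintype.card_coe,
    List.toFinset_card_of_nodup (List.Nodup.filter _ List.nodup_range), oct_count]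
  exact Nat.mul_le_mul_left _ (card_normalizer_C hB)

include St Su in
/-- The quotient is the Mathieu group. -/
theorem exists_iso (hB : Good B) : ∃ θ : ↥(normalizer (Ab B hB : Set G)) →* ↥Cfsg.M24,
    (∀ n : ↥(normalizer (Ab B hB : Set G)), Rel B (n : G) ((θ n : Cfsg.M24) : Equiv.Perm Cfsg.GolayPt)) ∧
    θ.ker = (Ab B hB).subgroupOf (normalizer (Ab B hB : Set G)) ∧ Function.Surjective θ ∧
    Nat.card ↥(normalizer (Ab B hB : Set G)) = 2048 * 244823040 := by
  obtain ⟨θ, hθ⟩ := exists_hom St Su hB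
  have hker : θ.ker = (Ab B hB).subgroupOf (normalizer (Ab B hB : Set G)) := by
    ext n
    rw [MonoidHom.mem_ker, mem_subgroupOf]
    constructor
    · intro h
      have := hθ n
      rw [h] at this
      exact ker_subset hB n.2 this
    · intro h
      refine Subtype.ext (rel_unique hB n.2 (hθ n) fun m hm m' hm' he => ⟨0, fun p => ?_⟩)
      rw [Ab_comm hB h (phi_mem hB m), mul_inv_cancel_right] at he
      rw [phi_inj hB hm hm' he, add_zero]; rfl
  have hA : Nat.card θ.ker = 2048 := by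
    rw [hker, Nat.card_congr (subgroupOfEquivOfLe (le_normalizer (H := Ab B hB))).toEquiv, card_Ab hB]
    norm_num
  have hcard := Subgroup.card_eq_card_quotient_mul_card_subgroup θ.ker
  rw [hA, Nat.card_congr (QuotientGroup.quotientKerEquivRange θ).toEquiv] at hcard
  have hge := card_normalizer_ge St Su hB
  rw [hcard] at hge
  have h24 : Nat.card θ.range ≤ Nat.card ↥Cfsg.M24 := Subgroup.card_le_card_group θ.range
  rw [CfsgLib.Golay.card_M24] at h24
  have hr : Nat.card θ.range = 244823040 := by omega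
  refine ⟨θ, hθ, hker, MonoidHom.range_eq_top.1 (eq_top_of_le_card _ ?_), by omega⟩
  rw [hr, CfsgLib.Golay.card_M24]

include St Su in
theorem two_orbits (hB : Good B) : ∃ a ∈ Ab B hB, ∃ b ∈ Ab B hB, a ≠ 1 ∧ b ≠ 1 ∧
    (∀ n ∈ normalizer (Ab B hB : Set G), n * a * n⁻¹ ≠ b) ∧
    ∀ c ∈ Ab B hB, c ≠ 1 → ∃ n ∈ normalizer (Ab B hB : Set G), n * c * n⁻¹ = a ∨ n * c * n⁻¹ = b := by
  classical
  obtain ⟨θ, hθ, -, hsurj, -⟩ := exists_iso St Su hB
  have h40 : octSet.testBit 40 = false ∧ dodSet.testBit 40 = true := by decide +kernel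
  have hw := fun {m} (hm : m < 2048) =>
    two_level (P := fun m => (octSet.testBit m = true ↔ wt 24 (cWord m) = 8 ∨ wt 24 (cWord m) = 16) ∧
      (dodSet.testBit m = true ↔ wt 24 (cWord m) = 12)) weights hm
  have hdod : ∀ {m}, m < 2048 → dodSet.testBit m = true → pts (cWord m) ∈ Cfsg.dodecads := by
    intro m hm h
    exact ⟨⟨V m, V_mem m, CfsgLib.Golay.support_vec _⟩, by
      rw [CfsgLib.Golay.card_pts]; exact (hw hm).2.1 h⟩
  refine ⟨z, gens_mem hB ((mem_gens B).2 (Or.inl rfl)), phi B 40, phi_mem hB 40, D.pre.gen.ne_one,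
    fun h => absurd (phi_eq_one hB (by norm_num) h) (by norm_num), fun n hn h => ?_, fun c hc hc1 => ?_⟩
  · have := (bit_iff St Su hB (m := 40) (by norm_num) (by norm_num)).1.2 (isConj_iff.2 ⟨n, h⟩)
    rw [h40.1] at this
    exact Bool.false_ne_true this
  obtain ⟨m, hm, rfl⟩ := mem_Ab.1 hc
  have hm0 : m ≠ 0 := fun e => hc1 (by rw [e]; exact ev_zero _)
  rcases classify St Su hB hm hm0 with ⟨-, n, hn, he⟩ | ⟨hd, -⟩
  · exact ⟨n⁻¹, inv_mem hn, Or.inl (by rw [← he]; group)⟩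
  obtain ⟨g, hg⟩ := CfsgLib.Golay.dodecad_transitive (hdod hm hd) (hdod (by norm_num) h40.2)
  obtain ⟨n, hn⟩ := hsurj g
  obtain ⟨m', hm', he⟩ := conj_phi hB n.2 m
  obtain ⟨k, hk⟩ := hθ n m hm m' hm' he
  have hVV : ∀ p, V 40 p = V m ((g : Equiv.Perm Cfsg.GolayPt).symm p) := by
    intro p
    apply Cfsg.Agent.S5549.zmod_two_eq
    have := Finset.ext_iff.1 hg p
    simp only [V]
    rw [CfsgLib.Golay.smul_finset_eq_image, ← CfsgLib.Golay.support_vec, ← CfsgLib.Golay.support_vec] at this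
    simp only [Cfsg.support₂, Finset.mem_image, Finset.mem_filter, Finset.mem_univ, true_and] at this
    rw [← this]
    exact ⟨fun ⟨q, hq, hqp⟩ => by simpa [← hqp] using hq,
      fun h => ⟨(g : Equiv.Perm Cfsg.GolayPt).symm p, h, by simp⟩⟩
  refine ⟨n, n.2, Or.inr (he.trans ?_)⟩
  rw [(V_inj hm' (by norm_num : (40 : ℕ) < 2048) (fun p => by rw [hk p, hn, hVV p])).1]

end CfsgLib.Co1Golay
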