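import Cfsg.Agent.Co1Golay.Frame
import Cfsg.Agent.Co1Golay.Bits

/-!
The elementary subgroup of order `2 ^ 11`: it is the centraliser of the preimage of the maximal
totally singular subspace, and is self-centralising.
-/

set_option autoImplicit false
set_option maxRecDepth 100000
set_option synthInstance.maxSize 4096
set_option linter.style.haveILetI false
set_option linter.unusedSectionVars false

namespace CfsgLib.Co1Golay

open CfsgLib CfsgLib.Quad CfsgLib.Co1Invol Subgroup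
open CfsgLib.Golay (comb)

variable {G : Type*} [Group G] [Finite G] {z : G} {D : Dat z} (B : Base D)

/-- The generators. -/
noncomputable def gens : List G :=
  [z, B.s, av B 0, av B 1, av B 2, bt B (av B 0), bt B (av B 1), bt B (av B 2), nv B 0, nv B 1, nv B 2]

/-- The element with given mask. -/
noncomputable def phi (m : ℕ) : G := ev (gens B) m

theorem mem_gens {g : G} : g ∈ gens B ↔ g = z ∨ g = B.s ∨ (∃ i, g = av B i) ∨ (∃ i, g = bt B (av B i)) ∨
    ∃ i, g = nv B i := by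
  simp only [gens, List.mem_cons, List.not_mem_nil, or_false, Fin.exists_fin_succ, Fin.exists_fin_zero]
  tauto

theorem gens_N {g : G} (hg : g ∈ gens B) : g ∈ B.N := by
  rcases (mem_gens B).1 hg with rfl | rfl | ⟨i, rfl⟩ | ⟨i, rfl⟩ | ⟨i, rfl⟩
  · exact B.mem_N.2 ⟨rfl, (D.pre.gen.comm_z _ B.sQ).eq.symm⟩
  · exact B.mem_N.2 ⟨(D.pre.gen.comm_z _ B.sQ).eq, rfl⟩
  · exact B.A_N ((av_lift B i).mem_A B (sw_xv i))
  · exact B.P_N (bt_spec B (sw_xv i) (av_lift B i)).1
  · exact (nv_spec B i).1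

theorem invList_gens (hB : Good B) : InvList (gens B) := by
  have hx : ∀ i j, bf (xv i) (xv j) = 0 := fun i j => (xv_yv_facts.2 i j).1
  have hz : ∀ g ∈ gens B, z * g = g * z ∧ B.s * g = g * B.s := fun g hg =>
    ⟨((B.mem_N.1 (gens_N B hg)).1).symm, ((B.mem_N.1 (gens_N B hg)).2).symm⟩
  have hnb : ∀ i j, nv B i * bt B (av B j) = bt B (av B j) * nv B i := fun i j => by
    have h1 : Commute (nv B i) B.τ' := ((nv_spec B i).2.2.2).symm
    have h2 : Commute (nv B i) (av B j) := mul_inv_eq_iff_eq_mul.1 (hB.nv_av i j)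
    exact (((h1.mul_right h2).mul_right h1.inv_right).mul_right h2.inv_right).eq
  refine ⟨fun g hg => ?_, fun g hg g' hg' => ?_⟩
  · rcases (mem_gens B).1 hg with rfl | rfl | ⟨i, rfl⟩ | ⟨i, rfl⟩ | ⟨i, rfl⟩
    exacts [D.pre.gen.sq, B.s_sq, (av_lift B i).sq (sw_xv i).2, bt_sq B (sw_xv i) (av_lift B i), nv_sq B i]
  · rcases (mem_gens B).1 hg with rfl | rfl | ⟨i, rfl⟩ | ⟨i, rfl⟩ | ⟨i, rfl⟩
    · exact (hz g' hg').1
    · exact (hz g' hg').2
    all_goals rcases (mem_gens B).1 hg' with rfl | rfl | ⟨j, rfl⟩ | ⟨j, rfl⟩ | ⟨j, rfl⟩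
    all_goals first
      | exact ((hz _ hg).1).symm
      | exact ((hz _ hg).2).symm
      | exact (av_lift B i).comm (av_lift B j) (hx i j)
      | exact bt_comm_lift B (sw_xv j) (sw_xv i) (av_lift B j) (av_lift B i) (hx i j)
      | exact (bt_comm_lift B (sw_xv i) (sw_xv j) (av_lift B i) (av_lift B j) (hx j i)).symm
      | exact bt_comm B (sw_xv i) (sw_xv j) (av_lift B i) (av_lift B j) (hx i j)
      | exact hnb i j
      | exact (hnb j i).symm
      | exact mul_inv_eq_iff_eq_mul.1 (hB.nv_av i j)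
      | exact (mul_inv_eq_iff_eq_mul.1 (hB.nv_av j i)).symm
      | exact nv_comm B i j

/-! ### The induced isometries -/

/-- Selection of parameter lists by bits. -/
def selL : List (List (M8 × M8)) → ℕ → List (M8 × M8)
  | [], _ => []
  | l :: Ls, c => (if c % 2 = 1 then l else []) ++ selL Ls (c / 2)

theorem hact_ev : ∀ (L : List G) (Ls : List (List (M8 × M8))),
    List.Forall₂ (fun g l => g ∈ centralizer ({z} : Set G) ∧ hact D g = sgL l) L Ls →
      ∀ c, ev L c ∈ centralizer ({z} : Set G) ∧ hact D (ev L c) = sgL (selL Ls c)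
  | _, _, List.Forall₂.nil, c => ⟨one_mem _, hact_Q (one_mem _)⟩
  | _, _, List.Forall₂.cons (a := g) (b := l) (l₁ := L) (l₂ := Ls) hgl h, c => by
    obtain ⟨h1, h2⟩ := hact_ev L Ls h (c / 2)
    have h3 : (if c % 2 = 1 then g else 1) ∈ centralizer ({z} : Set G) ∧
        hact D (if c % 2 = 1 then g else 1) = sgL (if c % 2 = 1 then l else []) := by
      split_ifs
      exacts [hgl, ⟨one_mem _, hact_Q (one_mem _)⟩]
    refine ⟨mul_mem h3.1 h1, ?_⟩
    rw [ev, hact_mul h3.1 h1, h3.2, h2, selL, sgL_append]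

/-- The parameters of the part outside the kernel. -/
def topLs : List (List (M8 × M8)) := [[(e0, x1)], [(e0, x2)], [(e0, x3)], [rp 0], [rp 1], [rp 2]]

theorem selL_low (m : ℕ) : selL ([] :: [] :: [] :: [] :: [] :: topLs) m = selL topLs (m / 32) := by
  simp only [selL, ite_self, List.nil_append, Nat.div_div_eq_div_mul]

theorem uMap_eq_sm : ∀ i : Fin 3, ∀ m : M8, uMap (xv i) m = sm e0 (xv i) m := by decide +kernel

theorem hact_bt {t : M8} (ht : SW t) {q : G} (h : Lift D t q) :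
    hact D (bt B q) = ⟨(D.act ⟨bt B q, (bt_spec B ht h).1.2⟩).1, (D.act _).2⟩ ∧
      ∀ m, (hact D (bt B q)).1 m = uMap t m := by
  obtain ⟨p1, w1⟩ := bt_spec B ht h
  exact ⟨hact_eq p1.2, fun m => by rw [hact_eq p1.2, (B.act_P p1).2, w1]⟩

theorem e0_xv_ok : ∀ i, okL [(e0, xv i)] := by decide +kernel

theorem hact_phi (m : ℕ) :
    phi B m ∈ centralizer ({z} : Set G) ∧ hact D (phi B m) = sgL (selL topLs (m / 32)) := by
  rw [← selL_low]
  have hq : ∀ {q : G}, q ∈ D.Q → q ∈ centralizer ({z} : Set G) ∧ hact D q = sgL [] :=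
    fun hq => ⟨mem_C D hq, hact_Q hq⟩
  have hb : ∀ i, bt B (av B i) ∈ centralizer ({z} : Set G) ∧ hact D (bt B (av B i)) = sgL [(e0, xv i)] :=
    fun i => ⟨(bt_spec B (sw_xv i) (av_lift B i)).1.2, ext8 fun v => by
      rw [(hact_bt B (sw_xv i) (av_lift B i)).2, sgL_apply _ (e0_xv_ok i), uMap_eq_sm]; rfl⟩
  have hn : ∀ i, nv B i ∈ centralizer ({z} : Set G) ∧ hact D (nv B i) = sgL [rp i] :=
    fun i => ⟨B.N_C (nv_spec B i).1, (nv_spec B i).2.1⟩
  exact hact_ev _ _ (.cons (hq D.pre.gen.mem) (.cons (hq B.sQ) (.cons (hq (av_lift B 0).1)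
    (.cons (hq (av_lift B 1).1) (.cons (hq (av_lift B 2).1) (.cons (hb 0) (.cons (hb 1) (.cons (hb 2)
    (.cons (hn 0) (.cons (hn 1) (.cons (hn 2) .nil))))))))))) m

theorem topLs_sel : ∀ k < 64, okL (selL topLs k) ∧ inPool (selL topLs k) := by decide +kernel

theorem div32_lt {m : ℕ} (hm : m < 2048) : m / 32 < 64 := by omega

/-- The matrix of a mask. -/
def mBit (k : ℕ) (i j : Fin 4) : ℕ :=
  ![![0, k % 2, k / 2 % 2, k / 4 % 2], ![k % 2, 0, k / 32 % 2, k / 16 % 2],
    ![k / 2 % 2, k / 32 % 2, 0, k / 8 % 2], ![k / 4 % 2, k / 16 % 2, k / 8 % 2, 0]] i j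

theorem sel_values : ∀ k < 64, (∀ i : Fin 4, sLN (selL topLs k) (encN (xb i)) = encN (xb i)) ∧
    ∀ i j : Fin 4, bN (sLN (selL topLs k) (encN (yb i))) (encN (yb j)) = mBit k i j := by decide +kernel

theorem bf_yb : ∀ j : Fin 4, ∀ u : M8, bf u (yb j) = (bN (encN u) (encN (yb j)) : ZMod 2) := by decide +kernel

theorem phi_fix {m : ℕ} (hm : m < 2048) (i : Fin 4) : (hact D (phi B m)).1 (xb i) = xb i := by
  rw [(hact_phi B m).2, sgL_apply _ (topLs_sel _ (div32_lt hm)).1]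
  exact smL_val (topLs_sel _ (div32_lt hm)).2 ((sel_values _ (div32_lt hm)).1 i)

theorem phi_matrix {m : ℕ} (hm : m < 2048) (i j : Fin 4) :
    bf ((hact D (phi B m)).1 (yb i)) (yb j) = (mBit (m / 32) i j : ZMod 2) := by
  rw [(hact_phi B m).2, sgL_apply _ (topLs_sel _ (div32_lt hm)).1, bf_yb,
    encN_smL _ (topLs_sel _ (div32_lt hm)).2, (sel_values _ (div32_lt hm)).2]

theorem mBit_inj : ∀ k < 64, (∀ i j : Fin 4, (mBit k i j : ZMod 2) = 0) → k = 0 := by decide +kernel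

theorem ext_matrix {g g' : O8} (h : ∀ i, g.1 (xb i) = xb i) (h' : ∀ i, g'.1 (xb i) = xb i)
    (hm : ∀ i j, bf (g.1 (yb i)) (yb j) = bf (g'.1 (yb i)) (yb j)) : g = g' := by
  have hy : ∀ i, g.1 (yb i) = g'.1 (yb i) := fun i => by
    rw [expand4 (g.1 (yb i)), expand4 (g'.1 (yb i))]
    refine Finset.sum_congr rfl fun j _ => ?_
    rw [hm i j]
    congr 2
    conv_lhs => rw [← h j, bf_oGroup]
    conv_rhs => rw [← h' j, bf_oGroup]
  refine ext8 fun m => ?_
  rw [expand4 m]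
  simp only [map_sum, map_add, map_smul, h, h', hy]

/-- The projection on the selected elements of the kernel. -/
def piSel : List M8 → ℕ → M8
  | [], _ => 0
  | t :: T, c => (if c % 2 = 1 then t else 0) + piSel T (c / 2)

theorem π_ev : ∀ (L : List G) (T : List M8), List.Forall₂ (fun g t => Lift D t g) L T →
    ∀ c, Lift D (piSel T c) (ev L c)
  | _, _, List.Forall₂.nil, c => ⟨one_mem _, π_one D⟩
  | _, _, List.Forall₂.cons (a := g) (b := t) (l₁ := L) (l₂ := T) hgt h, c => by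
    obtain ⟨h1, h2⟩ := π_ev L T h (c / 2)
    have h3 : Lift D (if c % 2 = 1 then t else 0) (if c % 2 = 1 then g else 1) := by
      split_ifs
      exacts [hgt, ⟨one_mem _, π_one D⟩]
    exact ⟨mul_mem h3.1 h1, by rw [ev, D.π_mul _ h3.1 _ h1, h3.2, h2, piSel]⟩

theorem ev_take : ∀ (L L' : List G) (c : ℕ), c < 2 ^ L.length → ev (L ++ L') c = ev L c
  | [], L', c, hc => by
    obtain rfl : c = 0 := by simpa using hc
    rw [ev_zero, ev_zero]
  | g :: L, L', c, hc => by
    rw [List.cons_append, ev, ev, ev_take L L' (c / 2) (by rw [List.length_cons, pow_succ] at hc; omega)]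

/-- The images of the generators inside the kernel. -/
def lowT : List M8 := [0, e0, x1, x2, x3]

theorem phi_low {m : ℕ} (hm : m < 32) : Lift D (piSel lowT m) (phi B m) := by
  have e : phi B m = ev [z, B.s, av B 0, av B 1, av B 2] m :=
    ev_take [z, B.s, av B 0, av B 1, av B 2]
      [bt B (av B 0), bt B (av B 1), bt B (av B 2), nv B 0, nv B 1, nv B 2] m (by simpa using hm)
  rw [e]
  exact π_ev _ _ (.cons ⟨D.pre.gen.mem, π_z D⟩ (.cons ⟨B.sQ, B.πs⟩ (.cons (av_lift B 0) (.cons (av_lift B 1)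
    (.cons (av_lift B 2) .nil))))) m

theorem piSel_surj : ∀ w : M8, inW w → ∃ m < 16, piSel lowT (2 * m) = w := by decide +kernel

theorem piSel_zero : ∀ m < 32, piSel lowT m = 0 → m < 2 := by decide +kernel

theorem phi_inW {q : G} (hq : q ∈ D.Q) (hw : inW (D.π q)) : ∃ m < 32, phi B m = q := by
  obtain ⟨m, hm, he⟩ := piSel_surj _ hw
  obtain ⟨h1, h2⟩ := phi_low B (m := 2 * m) (by omega)
  rcases eq_of_π D h1 hq (h2.trans he) with e | e
  · exact ⟨2 * m, by omega, e.symm⟩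
  · refine ⟨2 * m + 1, by omega, ?_⟩
    have hc : phi B (2 * m) * z = z * phi B (2 * m) := (D.pre.gen.comm_z _ h1).eq
    rw [e, hc]
    simp only [phi, gens, ev, show (2 * m + 1) % 2 = 1 by omega, show (2 * m + 1) / 2 = m by omega,
      show 2 * m % 2 = 0 by omega, show 2 * m / 2 = m by omega, if_pos, zero_ne_one, if_false, one_mul]

variable {B}

theorem phi_xor (hB : Good B) (a b : ℕ) : phi B (a ^^^ b) = phi B a * phi B b :=
  ev_xor _ (invList_gens B hB) a b

theorem phi_eq_one (hB : Good B) {m : ℕ} (hm : m < 2048) (h : phi B m = 1) : m = 0 := by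
  have h0 : m / 32 = 0 := mBit_inj _ (div32_lt hm) fun i j => by
    rw [← phi_matrix B hm, h, hact_Q (one_mem _)]
    exact (yb_facts i j).1
  have hm' : m < 32 := by omega
  have h1 := (phi_low B hm').2
  rw [h, π_one] at h1
  have := piSel_zero m hm' h1.symm
  interval_cases m
  · rfl
  · exfalso
    refine D.pre.gen.ne_one ?_
    rw [← h]
    simp [phi, gens, ev]

theorem phi_inj (hB : Good B) {a b : ℕ} (ha : a < 2048) (hb : b < 2048) (h : phi B a = phi B b) : a = b := by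
  have := phi_eq_one hB (Nat.xor_lt_two_pow (n := 11) ha hb)
    (by rw [phi_xor hB, h]; exact ev_sq (invList_gens B hB) b)
  exact Nat.xor_eq_zero_iff.1 this

variable (B)

/-- The elementary subgroup. -/
noncomputable def Ab (hB : Good B) : Subgroup G := evGroup (gens B) (invList_gens B hB)

variable {B}

theorem mem_Ab {hB : Good B} {x : G} : x ∈ Ab B hB ↔ ∃ m < 2048, phi B m = x :=
  ⟨fun h => by
    obtain ⟨a, rfl⟩ := (mem_evGroup (invList_gens B hB)).1 h
    refine ⟨a % 2048, Nat.mod_lt _ (by norm_num), ?_⟩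
    have hl : (2 : ℕ) ^ (gens B).length = 2048 := by
      simp only [gens, List.length_cons, List.length_nil]; norm_num
    show ev (gens B) (a % 2048) = _
    rw [← hl]
    exact ev_mod (gens B) a, fun ⟨m, _, h⟩ => ⟨m, h⟩⟩

theorem phi_mem (hB : Good B) (m : ℕ) : phi B m ∈ Ab B hB := ⟨m, rfl⟩

theorem Ab_le_C (hB : Good B) : Ab B hB ≤ centralizer ({z} : Set G) := by
  rintro x hx
  obtain ⟨m, -, rfl⟩ := mem_Ab.1 hx
  exact (hact_phi B m).1

theorem Ab_comm (hB : Good B) {x y : G} (hx : x ∈ Ab B hB) (hy : y ∈ Ab B hB) : x * y = y * x := by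
  obtain ⟨a, -, rfl⟩ := mem_Ab.1 hx
  obtain ⟨b, -, rfl⟩ := mem_Ab.1 hy
  rw [← phi_xor hB, ← phi_xor hB, Nat.xor_comm]

theorem z_eq_phi : phi B 1 = z := by simp [phi, gens, ev]

theorem card_Ab (hB : Good B) : Nat.card (Ab B hB) = 2 ^ 11 := by
  rw [show (2 : ℕ) ^ 11 = Nat.card (Fin 2048) by simp]
  refine (Nat.card_congr (Equiv.ofBijective (fun m : Fin 2048 => (⟨phi B m.val, phi_mem hB _⟩ : Ab B hB))
    ⟨fun a b h => Fin.ext (phi_inj hB a.2 b.2 (congrArg Subtype.val h)), fun ⟨x, hx⟩ => ?_⟩)).symm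
  obtain ⟨m, hm, rfl⟩ := mem_Ab.1 hx
  exact ⟨⟨m, hm⟩, rfl⟩

theorem Ab_elementary (hB : Good B) : Cfsg.IsElementaryAbelian 2 (Ab B hB) := by
  refine ⟨⟨⟨fun a b => Subtype.ext (Ab_comm hB a.2 b.2)⟩⟩, ?_⟩
  rintro x hx
  obtain ⟨m, -, rfl⟩ := mem_Ab.1 hx
  rw [pow_two]
  exact ev_sq (invList_gens B hB) m

theorem matrix_kOf : ∀ a b c d e f : ZMod 2, ∀ i j : Fin 4,
    (mBit (a.val + 2 * b.val + 4 * c.val + 8 * f.val + 16 * e.val + 32 * d.val) i j : ZMod 2) =
      ![![0, a, b, c], ![a, 0, d, e], ![b, d, 0, f], ![c, e, f, 0]] i j := by decide +kernel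

theorem matrix_of (M : Fin 4 → Fin 4 → ZMod 2) (hd : ∀ i, M i i = 0) (hs : ∀ i j, M i j = M j i)
    (i j : Fin 4) : (mBit ((M 0 1).val + 2 * (M 0 2).val + 4 * (M 0 3).val + 8 * (M 2 3).val +
      16 * (M 1 3).val + 32 * (M 1 2).val) i j : ZMod 2) = M i j := by
  rw [matrix_kOf]
  have h0 := hd 0; have h1 := hd 1; have h2 := hd 2; have h3 := hd 3
  have s1 := hs 1 0; have s2 := hs 2 0; have s3 := hs 3 0
  have s4 := hs 2 1; have s5 := hs 3 1; have s6 := hs 3 2
  fin_cases i <;> fin_cases j <;> simp [h0, h1, h2, h3, s1, s2, s3, s4, s5, s6]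

theorem inW_iff_xb : ∀ u : M8, inW u ↔ ∀ k, bf u (xb k) = 0 := by decide +kernel

theorem inW_of_fix {g : O8} (h : ∀ i, g.1 (xb i) = xb i) (m : M8) : inW (g.1 m + m) :=
  (inW_iff_xb _).2 fun k => by
    rw [bf_add_left]
    conv_lhs => arg 1; rw [← h k]
    rw [bf_oGroup, CharTwo.add_self_eq_zero]

/-- The subgroup is the centraliser of the preimage of the singular subspace. -/
theorem mem_Ab_of_fix (hB : Good B) {c : G} (hc : c ∈ centralizer ({z} : Set G)) (hs : c * B.s = B.s * c)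
    (hx : ∀ i, c * av B i = av B i * c) : c ∈ Ab B hB := by
  have hfix : ∀ i, (hact D c).1 (xb i) = xb i := by
    have key : ∀ {q : G} {t : M8}, Lift D t q → c * q = q * c → (hact D c).1 t = t := fun {q t} hq he => by
      have h := (π_conj hc hq.1).2
      rw [he, mul_inv_cancel_right, hq.2] at h
      exact h.symm
    intro i
    fin_cases i
    exacts [key ⟨B.sQ, B.πs⟩ hs, key (av_lift B 0) (hx 0), key (av_lift B 1) (hx 1), key (av_lift B 2) (hx 2)]
  set g := hact D c with hg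
  let M : Fin 4 → Fin 4 → ZMod 2 := fun i j => bf (g.1 (yb i)) (yb j)
  have hdiag : ∀ u, bf (g.1 u) u = 0 := fun u => by
    have h := inW_sing _ (inW_of_fix hfix u)
    rwa [qf_add, qf_oGroup, CharTwo.add_self_eq_zero, zero_add] at h
  have hsym : ∀ i j, M i j = M j i := fun i j => by
    have h := hdiag (yb i + yb j)
    rw [map_add, bf_add_left, bf_add_right, bf_add_right, hdiag, hdiag, zero_add, add_zero] at h
    exact CharTwo.add_eq_zero.1 h
  obtain ⟨k, hk⟩ : ∃ k, k = (M 0 1).val + 2 * (M 0 2).val + 4 * (M 0 3).val + 8 * (M 2 3).val +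
      16 * (M 1 3).val + 32 * (M 1 2).val := ⟨_, rfl⟩
  have hklt : k < 64 := by
    have h := fun t : ZMod 2 => ZMod.val_lt t
    have := h (M 0 1); have := h (M 0 2); have := h (M 0 3); have := h (M 2 3)
    have := h (M 1 3); have := h (M 1 2)
    omega
  have heq : g = hact D (phi B (32 * k)) := by
    refine ext_matrix hfix (phi_fix B (by omega)) fun i j => ?_
    rw [phi_matrix B (by omega), Nat.mul_div_cancel_left _ (by norm_num : 0 < 32), hk,
      matrix_of M (fun l => hdiag _) hsym i j]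
  obtain ⟨hpC, -⟩ := hact_phi B (32 * k)
  have hsq : phi B (32 * k) * phi B (32 * k) = 1 := ev_sq (invList_gens B hB) _
  have hqQ : c * phi B (32 * k) ∈ D.Q := mem_Q_of_hact (mul_mem hc hpC) (by
    rw [hact_mul hc hpC, ← hg, heq, ← hact_mul hpC hpC, hsq, hact_Q (one_mem _)])
  have hq : ∀ {x : G}, c * x = x * c → x ∈ Ab B hB → c * phi B (32 * k) * x = x * (c * phi B (32 * k)) :=
    fun {x} h1 h2 => (((show Commute c x from h1)).mul_left
      (show Commute (phi B (32 * k)) x from Ab_comm hB (phi_mem hB _) h2)).eq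
  have hgen : ∀ g ∈ gens B, g ∈ Ab B hB := fun g hg => by
    obtain ⟨i, hi, rfl⟩ := List.mem_iff_getElem.1 hg
    exact ⟨2 ^ i, ev_two_pow _ i hi⟩
  have hW : inW (D.π (c * phi B (32 * k))) := (inW_iff _).2 ⟨by
    rw [← B.πs]
    exact (D.comm_iff _ hqQ _ B.sQ).1 (hq hs (hgen _ ((mem_gens B).2 (Or.inr (Or.inl rfl))))), fun i => by
    rw [← (av_lift B i).2]
    exact (D.comm_iff _ hqQ _ (av_lift B i).1).1
      (hq (hx i) (hgen _ ((mem_gens B).2 (Or.inr (Or.inr (Or.inl ⟨i, rfl⟩))))))⟩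
  obtain ⟨m, -, hm⟩ := phi_inW B hqQ hW
  have h : c = phi B m * phi B (32 * k) := by rw [hm, mul_assoc, hsq, mul_one]
  rw [h]
  exact mul_mem (phi_mem hB _) (phi_mem hB _)

theorem gens_mem (hB : Good B) {g : G} (hg : g ∈ gens B) : g ∈ Ab B hB := by
  obtain ⟨i, hi, rfl⟩ := List.mem_iff_getElem.1 hg
  exact ⟨2 ^ i, ev_two_pow _ i hi⟩

theorem centralizer_Ab (hB : Good B) {c : G} (h : ∀ x ∈ Ab B hB, c * x = x * c) : c ∈ Ab B hB :=
  mem_Ab_of_fix hB (mem_centralizer_singleton_iff.2 (h z (gens_mem hB ((mem_gens B).2 (Or.inl rfl)))))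
    (h _ (gens_mem hB ((mem_gens B).2 (Or.inr (Or.inl rfl)))))
    fun i => h _ (gens_mem hB ((mem_gens B).2 (Or.inr (Or.inr (Or.inl ⟨i, rfl⟩)))))

theorem conj_mem_Ab (hB : Good B) {c : G} (hc : c ∈ centralizer ({z} : Set G))
    (hW : ∀ w, inW w → inW (((hact D c)⁻¹).1 w)) {x : G} (hx : x ∈ Ab B hB) : c * x * c⁻¹ ∈ Ab B hB := by
  have hxC := Ab_le_C hB hx
  have key : ∀ {q : G} {t : M8}, Lift D t q → inW t → c * x * c⁻¹ * q = q * (c * x * c⁻¹) := by
    intro q t hq ht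
    obtain ⟨h1, h2⟩ := π_conj (D := D) (inv_mem hc) hq.1
    rw [inv_inv] at h1 h2
    rw [hact_inv hc, hq.2] at h2
    obtain ⟨m, -, hm⟩ := phi_inW B h1 (by rw [h2]; exact hW t ht)
    have := Ab_comm hB hx (phi_mem hB m)
    rw [hm] at this
    calc c * x * c⁻¹ * q = c * (x * (c⁻¹ * q * c)) * c⁻¹ := by group
      _ = c * (c⁻¹ * q * c * x) * c⁻¹ := by rw [this]
      _ = q * (c * x * c⁻¹) := by group
  exact mem_Ab_of_fix hB (mul_mem (mul_mem hc hxC) (inv_mem hc)) (key ⟨B.sQ, B.πs⟩ inW_facts.1)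
    fun i => key (av_lift B i) (inW_facts.2.1 i)

end CfsgLib.Co1Golay
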