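import Cfsg.Agent.Co1Invol.Main
import Cfsg.Agent.Golay.Basic

/-!
Finite facts on the eight-dimensional space around a maximal totally singular subspace.
-/

set_option autoImplicit false
set_option maxRecDepth 100000
set_option synthInstance.maxSize 4096
set_option linter.style.haveILetI false

namespace CfsgLib.Co1Golay

open CfsgLib CfsgLib.Quad CfsgLib.Co1Invol Subgroup

/-- Basis of the residual singular subspace. -/
def xv (i : Fin 3) : M8 := ![x1, x2, x3] i

/-- The dual basis. -/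
def yv (i : Fin 3) : M8 := ![y1, y2, y3] i

theorem xv_yv_facts : (∀ i, xv i ∈ wList ∧ yv i ∈ wList ∧ qf (xv i) = 0 ∧ qf (yv i) = 0) ∧
    ∀ i j, bf (xv i) (xv j) = 0 ∧ bf (yv i) (yv j) = 0 ∧ bf (xv i) (yv j) = (if i = j then 1 else 0) := by
  decide +kernel

/-- The iterated map of a list of parameters. -/
def smL : List (M8 × M8) → M8 → M8
  | [], m => m
  | p :: l, m => sm p.1 p.2 (smL l m)

/-- The product of a list of parameters. -/
noncomputable def sgL : List (M8 × M8) → O8
  | [] => 1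
  | p :: l => siegel q8 p.1 p.2 * sgL l

/-- Admissible parameters. -/
def okL (l : List (M8 × M8)) : Prop := ∀ p ∈ l, qf p.1 = 0 ∧ bf p.1 p.2 = 0

instance (l : List (M8 × M8)) : Decidable (okL l) :=
  List.decidableBAll (fun p : M8 × M8 => qf p.1 = 0 ∧ bf p.1 p.2 = 0) l

/-- Admissible parameters inside the complement. -/
def okW (l : List (M8 × M8)) : Prop := ∀ p ∈ l, p.1 ∈ wList ∧ p.2 ∈ wList ∧ qf p.1 = 0 ∧ bf p.1 p.2 = 0

instance (l : List (M8 × M8)) : Decidable (okW l) :=
  List.decidableBAll (fun p : M8 × M8 => p.1 ∈ wList ∧ p.2 ∈ wList ∧ qf p.1 = 0 ∧ bf p.1 p.2 = 0) l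

theorem okW.ok {l : List (M8 × M8)} (h : okW l) : okL l := fun p hp => ⟨(h p hp).2.2.1, (h p hp).2.2.2⟩

theorem sgL_apply : ∀ l : List (M8 × M8), okL l → ∀ m, (sgL l).1 m = smL l m
  | [], _, m => one_apply' m
  | p :: l, h, m => by
    show (siegel q8 p.1 p.2).1 ((sgL l).1 m) = _
    rw [sgL_apply l (fun q hq => h q (List.mem_cons_of_mem _ hq)) m]
    exact siegel_sm (h p List.mem_cons_self).1 (h p List.mem_cons_self).2 _

theorem sgL_comm : ∀ l : List (M8 × M8), okL l → sgL l ∈ commutator (oGroup q8)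
  | [], _ => one_mem _
  | p :: l, h => mul_mem (sm_mem (h p List.mem_cons_self).1 (h p List.mem_cons_self).2)
      (sgL_comm l fun q hq => h q (List.mem_cons_of_mem _ hq))

theorem sgL_lev : ∀ l : List (M8 × M8), okW l → sgL l ∈ lev
  | [], _ => one_mem _
  | p :: l, h => by
    obtain ⟨h1, h2, h3, h4⟩ := h p List.mem_cons_self
    exact mul_mem (siegel_mem_lev h1 h2 h3 h4) (sgL_lev l fun q hq => h q (List.mem_cons_of_mem _ hq))

theorem ext8 {g g' : O8} (h : ∀ m, g.1 m = g'.1 m) : g = g' := Subtype.ext (LinearEquiv.ext h)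

theorem sgL_eq {l l' : List (M8 × M8)} (h : okL l) (h' : okL l') (he : ∀ m, smL l m = smL l' m) :
    sgL l = sgL l' := ext8 fun m => by rw [sgL_apply l h, sgL_apply l' h', he]

theorem sgL_append : ∀ l l' : List (M8 × M8), sgL (l ++ l') = sgL l * sgL l'
  | [], l' => (one_mul _).symm
  | p :: l, l' => by
    show siegel q8 p.1 p.2 * sgL (l ++ l') = siegel q8 p.1 p.2 * sgL l * sgL l'
    rw [sgL_append l l', mul_assoc]

/-! ### Masks -/

/-- A vector as a mask. -/
def encN (m : M8) : ℕ :=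
  (m (.inl 0)).val + 2 * (m (.inl 1)).val + 4 * (m (.inl 2)).val + 8 * (m (.inl 3)).val +
    16 * (m (.inr 0)).val + 32 * (m (.inr 1)).val + 64 * (m (.inr 2)).val + 128 * (m (.inr 3)).val

theorem encN_lt : ∀ m : M8, encN m < 256 := by decide +kernel

theorem encN_inj {m n : M8} (h : encN m = encN n) : m = n := by
  have e : ∀ u : M8, u = Sum.elim (fun i => if (encN u).testBit i.val then 1 else 0)
      (fun i => if (encN u).testBit (4 + i.val) then 1 else 0) := by decide +kernel
  rw [e m, e n, h]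

/-- Parity of the lowest bits. -/
def par4 (x : ℕ) : ℕ := (x ^^^ (x >>> 1) ^^^ (x >>> 2) ^^^ (x >>> 3)) &&& 1

/-- The polar form on masks. -/
def bN (u v : ℕ) : ℕ := par4 ((u &&& (v >>> 4)) ^^^ ((u >>> 4) &&& v))

/-- The Siegel map on masks. -/
def sN (e a x : ℕ) : ℕ :=
  x ^^^ (a * bN x e) ^^^ (e * ((bN x a + par4 (a &&& (a >>> 4)) * bN x e) % 2))

/-- Evaluate an argument before use. -/
def withVal {α : Type} (x : ℕ) (k : ℕ → α) : α :=
  match x with
  | 0 => k 0
  | n + 1 => k (n + 1)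

theorem withVal_eq {α : Type} (x : ℕ) (k : ℕ → α) : withVal x k = k x := by cases x <;> rfl

/-- The iterated map on masks. -/
def sLN : List (M8 × M8) → ℕ → ℕ
  | [], x => x
  | p :: l, x => withVal (sLN l x) fun y => sN (encN p.1) (encN p.2) y

/-- The parameters in use. -/
def pool : List (M8 × M8) :=
  [(x2, x3), (x1, x3), (x1, x2), (x1, y3), (x3, y1), (x2, y3), (x3, y2), (x1, y2), (x2, y1), (y1, y3), (y1, y2),
    (e0, x1), (e0, x2), (e0, x3), (e0, y1), (e0, y2), (e0, y3), (x1, f0), (x2, f0), (x3, f0),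
    (x1 + x2, f0), (x1 + x3, f0), (x2 + x3, f0), (x1 + x2 + x3, f0)]

/-- Only pooled parameters. -/
def inPool (l : List (M8 × M8)) : Prop := ∀ p ∈ l, p ∈ pool

instance (l : List (M8 × M8)) : Decidable (inPool l) :=
  List.decidableBAll (fun p : M8 × M8 => p ∈ pool) l

theorem pool_sN' : pool.all fun p => decide (∀ m : M8, encN (sm p.1 p.2 m) = sN (encN p.1) (encN p.2) (encN m)) := by
  decide +kernel

theorem pool_sN : ∀ p ∈ pool, ∀ m : M8, encN (sm p.1 p.2 m) = sN (encN p.1) (encN p.2) (encN m) := fun p hp =>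
  of_decide_eq_true (List.all_eq_true.1 pool_sN' p hp)

theorem encN_smL : ∀ l : List (M8 × M8), inPool l → ∀ m, encN (smL l m) = sLN l (encN m)
  | [], _, _ => rfl
  | p :: l, h, m => by
    rw [sLN, withVal_eq, ← encN_smL l (fun q hq => h q (List.mem_cons_of_mem _ hq)) m]
    exact pool_sN p (h p List.mem_cons_self) _

theorem smL_eq {l l' : List (M8 × M8)} (h : inPool l) (h' : inPool l')
    (he : ∀ x < 256, sLN l x = sLN l' x) (m : M8) : smL l m = smL l' m :=
  encN_inj (by rw [encN_smL l h, encN_smL l' h', he _ (encN_lt m)])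

theorem smL_val {l : List (M8 × M8)} (h : inPool l) {m t : M8}
    (he : sLN l (encN m) = encN t) : smL l m = t := encN_inj (by rw [encN_smL l h, he])

/-- The parameters of the three commuting root elements. -/
def rp (i : Fin 3) : M8 × M8 := ![(x2, x3), (x1, x3), (x1, x2)] i

/-- The list for a product of root elements given by three bits. -/
def rList (h : ℕ) : List (M8 × M8) :=
  (if h.testBit 0 then [rp 0] else []) ++ (if h.testBit 1 then [rp 1] else []) ++
    (if h.testBit 2 then [rp 2] else [])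

theorem rList_ok : ∀ h < 8, okW (rList h) := by decide +kernel

theorem rList_pool : ∀ h < 8, inPool (rList h) := by decide +kernel

theorem rList_xor (h : ℕ) (hh : h < 8) (h' : ℕ) (hh' : h' < 8) (m : M8) :
    smL (rList h ++ rList h') m = smL (rList (h ^^^ h')) m := by
  refine smL_eq (fun p hp => ?_) (rList_pool _ (Nat.xor_lt_two_pow (n := 3) hh hh')) ?_ m
  · rcases List.mem_append.1 hp with hp | hp
    exacts [rList_pool h hh p hp, rList_pool h' hh' p hp]
  · have key : ∀ a < 8, ∀ b < 8, ∀ x < 256, sLN (rList a ++ rList b) x = sLN (rList (a ^^^ b)) x := by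
      decide +kernel
    exact key h hh h' hh' 

/-- Elements carrying the standard root element to the products. -/
def gList : ℕ → List (M8 × M8)
  | 1 => [(x1, y3), (x3, y1)]
  | 2 => [(x2, y3), (x3, y2)]
  | 3 => [(x1, y3), (x1, y2), (x3, y1)]
  | 4 => [(x1, x2)]
  | 5 => [(x3, y1)]
  | 6 => [(x3, y2)]
  | _ => []

theorem gList_ok : ∀ h < 8, okW (gList h) := by decide +kernel

theorem gList_pool : ∀ h < 8, inPool (gList h) := by decide +kernel

theorem gList_conj (h : ℕ) (hh : h < 8) (h0 : h ≠ 0) (h7 : h ≠ 7) (m : M8) :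
    smL (gList h ++ [(x1, x2)]) m = smL (rList h ++ gList h) m := by
  refine smL_eq ?_ ?_ ?_ m
  · exact (by decide +kernel : ∀ a < 8, inPool (gList a ++ [(x1, x2)])) h hh
  · exact (by decide +kernel : ∀ a < 8, inPool (rList a ++ gList a)) h hh
  · exact (by decide +kernel : ∀ a < 8, a ≠ 0 → a ≠ 7 → ∀ x < 256,
      sLN (gList a ++ [(x1, x2)]) x = sLN (rList a ++ gList a) x) h hh h0 h7

/-- The vectors where the twist of a root element is evaluated. -/
def Sees (l : List (M8 × M8)) (t : M8) (c : ZMod 2) : Prop :=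
  ∃ m ∈ perp12, sLN l (encN m) = encN t ∧ mu 0 m = c

instance (l : List (M8 × M8)) (t : M8) (c : ZMod 2) : Decidable (Sees l t c) := by unfold Sees; infer_instance

theorem sees_x : ∀ j : Fin 3, ∀ i : Fin 3, Sees (gList (2 ^ j.val)) (xv i) 0 := by decide +kernel

theorem sees_y : ∀ j : Fin 3, Sees (gList (2 ^ j.val)) (yv j) 1 := by decide +kernel

theorem sees_pair : ∀ i j : Fin 3, i ≠ j → Sees (gList (2 ^ i.val ^^^ 2 ^ j.val)) (yv i + yv j) 1 := by
  decide +kernel

theorem root_disp : ∀ i : Fin 3,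
    smL [rp i] (yv i) = yv i ∧ smL [rp 0] y2 = y2 + x3 ∧ smL [rp 0] y3 = y3 + x2 ∧
    smL [rp 1] y1 = y1 + x3 ∧ smL [rp 1] y3 = y3 + x1 ∧
    smL [rp 2] y1 = y1 + x2 ∧ smL [rp 2] y2 = y2 + x1 := by decide +kernel

/-- The parameters of the triangular elements. -/
def cp (i : Fin 3) : M8 × M8 := ![(x2, y1), (x3, y2), (x2, y3)] i

theorem cp_ok : ∀ i, okW [cp i] := by decide +kernel

/-- Elements carrying the standard root element to two triangular ones. -/
def gcList (i : Fin 3) : List (M8 × M8) :=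
  ![[(x1, x3), (y1, y3), (x1, y3), (x3, y1)], [(x1, x2), (y1, y2), (x2, y3), (x3, y2)], []] i

theorem gcList_ok : okW (gcList 0) ∧ okW (gcList 1) := by decide +kernel

theorem gcList_pool : ∀ i, inPool (gcList i) := by decide +kernel

theorem cp_pool : ∀ i, cp i ∈ pool := by decide +kernel

theorem gcList_conj : (∀ m : M8, smL (gcList 0 ++ [(x1, x2)]) m = smL (cp 0 :: gcList 0) m) ∧
    ∀ m : M8, smL (gcList 1 ++ [(x1, x2)]) m = smL (cp 1 :: gcList 1) m := by
  refine ⟨smL_eq ?_ ?_ ?_, smL_eq ?_ ?_ ?_⟩ <;> decide +kernel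

theorem sees_c : Sees (gcList 0) y1 0 ∧ Sees (gcList 0) y3 0 ∧ Sees (gcList 1) y1 0 ∧
    Sees (gcList 1) y2 0 := by decide +kernel

theorem cp_disp : smL [cp 0] y2 = y2 + y1 ∧ smL [cp 1] y3 = y3 + y2 ∧ smL [cp 2] y2 = y2 + y3 := by
  decide +kernel

/-- Membership in the maximal totally singular subspace. -/
def inW (m : M8) : Prop := ∀ i : Fin 4, m (.inr i) = 0

instance (m : M8) : Decidable (inW m) := by unfold inW; infer_instance

theorem inW_iff : ∀ m : M8, inW m ↔ bf m e0 = 0 ∧ ∀ i, bf m (xv i) = 0 := by decide +kernel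

theorem inW_sing : ∀ m : M8, inW m → qf m = 0 := by decide +kernel

theorem inW_facts : inW e0 ∧ (∀ i, inW (xv i)) ∧ inW 0 := by decide +kernel

theorem inW_add {u v : M8} (hu : inW u) (hv : inW v) : inW (u + v) := fun i => by
  rw [Pi.add_apply, hu i, hv i, add_zero]

/-- The basis of the complementary subspace. -/
def yb (i : Fin 4) : M8 := ![f0, y1, y2, y3] i

/-- The basis of the subspace. -/
def xb (i : Fin 4) : M8 := ![e0, x1, x2, x3] i

theorem expand4 : ∀ m : M8, m = ∑ i, (bf m (yb i) • xb i + bf m (xb i) • yb i) := by decide +kernel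

theorem inW_xb : ∀ i, inW (xb i) := by decide +kernel

theorem yb_facts : ∀ i j, bf (yb i) (yb j) = 0 ∧ bf (xb i) (xb j) = 0 ∧
    bf (xb i) (yb j) = (if i = j then 1 else 0) := by decide +kernel

end CfsgLib.Co1Golay
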