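import Cfsg.Agent.Co1Golay.Good

/-!
The generators of the elementary subgroup and of the elements normalising it.
-/

set_option autoImplicit false
set_option maxRecDepth 100000
set_option synthInstance.maxSize 4096
set_option linter.style.haveILetI false
set_option linter.unusedSectionVars false

namespace CfsgLib.Co1Golay

open CfsgLib CfsgLib.Quad CfsgLib.Co1Invol Subgroup

variable {G : Type*} [Group G] [Finite G] {z : G} {D : Dat z} (B : Base D)

/-- A preimage with given image. -/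
def Lift (D : Dat z) (t : M8) (q : G) : Prop := q ∈ D.Q ∧ D.π q = t

/-- The commutator written with the conjugate first. -/
def com (c q : G) : G := c * q * c⁻¹ * q⁻¹

/-- The commutator with the second transposition. -/
noncomputable def bt (q : G) : G := com B.τ' q

/-- Residual vectors that are singular. -/
def SW (t : M8) : Prop := t ∈ wList ∧ qf t = 0

theorem SW.perp {t : M8} (h : SW t) : bf t e0 = 0 := (wList_perp t h.1).1

theorem Lift.mem_A {t : M8} (ht : SW t) {q : G} (h : Lift D t q) : q ∈ B.A :=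
  B.mem_A.2 ⟨h.1, by rw [h.2]; exact ht.perp⟩

theorem Lift.sq {t : M8} {q : G} (h : Lift D t q) (hq : qf t = 0) : q * q = 1 :=
  (D.sq_iff q h.1).2 (by rw [h.2]; exact hq)

theorem Lift.inv {t : M8} {q : G} (h : Lift D t q) (hq : qf t = 0) : q⁻¹ = q :=
  inv_eq_of_mul_eq_one_right (h.sq hq)

theorem Lift.comm {t t' : M8} {q q' : G} (h : Lift D t q) (h' : Lift D t' q') (hb : bf t t' = 0) :
    q * q' = q' * q := (D.comm_iff q h.1 q' h'.1).2 (by rw [h.2, h'.2]; exact hb)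

theorem Lift.lf {l : List (M8 × M8)} (hl : okW l) {t : M8} {q : G} (h : Lift D t q) :
    Lift D (smL l t + t) (com (lf B l) q) := by
  obtain ⟨h1, h2⟩ := π_lf B hl h.1
  exact ⟨mul_mem h1 (inv_mem h.1), by rw [com, D.π_mul _ h1 _ (inv_mem h.1), h2, π_inv D h.1, h.2]⟩

theorem conj_eq_com (c q : G) : c * q * c⁻¹ = com c q * q := (inv_mul_cancel_right _ q).symm

theorem bt_spec {t : M8} (ht : SW t) {q : G} (h : Lift D t q) : bt B q ∈ B.P ∧ B.wv (bt B q) = t := by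
  have hA := h.mem_A B ht
  refine ⟨B.τ'_A hA, adm_eq (B.act_P (B.τ'_A hA)).1 ?_ ?_⟩
  · have := (adm_rep ht.1).1
    rwa [ht.2, zero_smul, add_zero] at this
  · rw [bt, com, ← B.wR_P (B.τ'_A hA).2]
    exact (B.τ'_wR hA).trans (by rw [h.2])

theorem pw_sq {b : G} (hb : b ∈ B.P) (hq : qf (B.wv b) = 0) : b * b = 1 := by
  obtain ⟨hV, hs, hζ⟩ := B.sq_P hb
  rw [B.eq_of_bits hV 0 (hs.trans hq) hζ, if_pos rfl]

theorem pw_mul {b b' : G} (hb : b ∈ B.P) (hb' : b' ∈ B.P) {t t' : M8} (ht : SW t) (ht' : SW t')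
    (h : B.wv b = t) (h' : B.wv b' = t') (hbf : bf t t' = 0) :
    SW (t + t') ∧ B.wv (b * b') = t + t' := by
  have hs : SW (t + t') := ⟨wList_add ht.1 ht'.1, by rw [qf_add, ht.2, ht'.2, hbf, add_zero, add_zero]⟩
  refine ⟨hs, adm_eq (B.act_P (mul_mem hb hb')).1 ?_ ?_⟩
  · have := (adm_rep hs.1).1
    rwa [hs.2, zero_smul, add_zero] at this
  · rw [← B.wR_P (mul_mem hb hb').2, B.wR_mul (B.P_R hb) (B.P_N hb'), B.wR_P hb.2, B.wR_P hb'.2, h, h',
      red_wList ht.1, red_wList ht'.1, red_wList hs.1]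

theorem bt_sq {t : M8} (ht : SW t) {q : G} (h : Lift D t q) : bt B q * bt B q = 1 :=
  pw_sq B (bt_spec B ht h).1 (by rw [(bt_spec B ht h).2, ht.2])

theorem bt_comm {t t' : M8} (ht : SW t) (ht' : SW t') {q q' : G} (h : Lift D t q) (h' : Lift D t' q')
    (hbf : bf t t' = 0) : bt B q * bt B q' = bt B q' * bt B q := by
  obtain ⟨p1, w1⟩ := bt_spec B ht h
  obtain ⟨p2, w2'⟩ := bt_spec B ht' h'
  obtain ⟨hs, hw⟩ := pw_mul B p1 p2 ht ht' w1 w2' hbf
  have h2 := pw_sq B (mul_mem p1 p2) (by rw [hw, hs.2])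
  calc bt B q * bt B q' = (bt B q * bt B q')⁻¹ := (inv_eq_of_mul_eq_one_right h2).symm
    _ = bt B q' * bt B q := by
      rw [mul_inv_rev, inv_eq_of_mul_eq_one_right (bt_sq B ht h), inv_eq_of_mul_eq_one_right (bt_sq B ht' h')]

/-- Conjugating a commutator with the second transposition by an element of the kernel. -/
theorem conj_bt {t t' : M8} (ht : SW t) (ht' : SW t') {q a : G} (h : Lift D t q) (h' : Lift D t' a) :
    a * bt B q * a⁻¹ = (if bf t' t = 0 then 1 else z * B.s) * bt B q := by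
  obtain ⟨p1, w1⟩ := bt_spec B ht h
  have := B.conj_k p1 (one_mem B.A) (h'.mem_A B ht')
  rw [mul_one, π_one, bf_zero_right, if_pos rfl, mul_one, h'.2, w1] at this
  exact this

theorem bt_comm_lift {t t' : M8} (ht : SW t) (ht' : SW t') {q a : G} (h : Lift D t q) (h' : Lift D t' a)
    (hbf : bf t' t = 0) : a * bt B q = bt B q * a := by
  refine mul_inv_eq_iff_eq_mul.1 ?_
  rw [conj_bt B ht ht' h h', if_pos hbf, one_mul]

theorem τ'_lift {t : M8} (ht : SW t) {q : G} (h : Lift D t q) :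
    B.τ' * q * B.τ'⁻¹ = bt B q * q ∧ B.τ' * bt B q * B.τ'⁻¹ = bt B q := by
  refine ⟨conj_eq_com _ _, ?_⟩
  have hc := bt_comm_lift B ht ht h h (bf_self t)
  have hi : q⁻¹ = q := h.inv ht.2
  have hb := bt_sq B ht h
  have e : B.τ' * bt B q * B.τ'⁻¹ = B.τ' * B.τ' * q * (B.τ' * B.τ')⁻¹ * (B.τ' * q * B.τ'⁻¹)⁻¹ := by
    rw [bt, com]; group
  rw [e, B.τ'_sq, inv_one, mul_one, one_mul, conj_eq_com B.τ' q, mul_inv_rev, hi]
  show q * (q * (bt B q)⁻¹) = bt B q
  rw [← mul_assoc, h.sq ht.2, one_mul, inv_eq_of_mul_eq_one_right hb]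

theorem τ_lift {t : M8} (ht : SW t) {q : G} (h : Lift D t q) : B.τ * q * B.τ⁻¹ = q :=
  mul_inv_eq_iff_eq_mul.2 ((D.comm_iff _ B.τ_Q q h.1).2 (by
    rw [B.π_τ, h.2, bf_comm, (wList_perp t ht.1).2]))

/-- The image of a commutator with the second transposition under an element fixing both. -/
theorem c_bt {c : G} (hc : B.τ' * c = c * B.τ') {t u : M8} (ht : SW t) (hu : SW u) (hb : bf u t = 0)
    {q : G} (hq : Lift D t q) (hp : Lift D u (com c q)) :
    c * bt B q * c⁻¹ = bt B (com c q) * bt B q := by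
  have hcc : B.τ'⁻¹ * c = c * B.τ'⁻¹ := (show Commute B.τ' c from hc).inv_left.eq
  have e : c * bt B q * c⁻¹ = B.τ' * (c * q * c⁻¹) * B.τ'⁻¹ * (c * q * c⁻¹)⁻¹ := by
    calc c * bt B q * c⁻¹ = c * B.τ' * q * (c * B.τ')⁻¹ * c * q⁻¹ * c⁻¹ := by rw [bt, com]; group
      _ = B.τ' * c * q * (B.τ' * c)⁻¹ * c * q⁻¹ * c⁻¹ := by rw [hc]
      _ = _ := by group
  obtain ⟨p, hpd⟩ : ∃ p, p = com c q := ⟨_, rfl⟩
  rw [← hpd] at hp ⊢
  have hpq := conj_eq_com c q
  rw [← hpd] at hpq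
  rw [e, hpq, show B.τ' * (p * q) * B.τ'⁻¹ = (B.τ' * p * B.τ'⁻¹) * (B.τ' * q * B.τ'⁻¹) by group,
    (τ'_lift B hu hp).1, (τ'_lift B ht hq).1, mul_inv_rev, hp.inv hu.2, hq.inv ht.2]
  calc bt B p * p * (bt B q * q) * (q * p) = bt B p * (p * bt B q) * (q * q) * p := by group
    _ = bt B p * (bt B q * p) * p := by
      rw [bt_comm_lift B ht hu hq hp hb, hq.sq ht.2, mul_one]
    _ = bt B p * bt B q := by rw [mul_assoc, mul_assoc, hp.sq hu.2, mul_one]

/-- The first transposition on commutators with the second. -/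
theorem τ_bt {c : G} (hcN : c ∈ B.N) (h1 : B.τ * c = c * B.τ) (h2 : B.τ' * c = c * B.τ') {t u : M8}
    (ht : SW t) (hu : SW u) (hb : bf u t = 0) {q : G} (hq : Lift D t q) (hp : Lift D u (com c q)) :
    B.τ * bt B (com c q) * B.τ⁻¹ = bt B (com c q) * com c q := by
  obtain ⟨p, hpd⟩ : ∃ p, p = com c q := ⟨_, rfl⟩
  have hcb := c_bt B h2 ht hu hb hq hp
  rw [← hpd] at hp hcb ⊢
  obtain ⟨p1, w1⟩ := bt_spec B ht hq
  obtain ⟨-, hA⟩ := B.N_τ (B.P_N p1)
  obtain ⟨w, hw⟩ : ∃ w, w = q⁻¹ * ((bt B q)⁻¹ * (B.τ * bt B q * B.τ⁻¹)) := ⟨_, rfl⟩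
  have hwV : B.InV w := by
    refine B.inV_of_red (hw ▸ mul_mem (inv_mem (hq.mem_A B ht)) hA) ?_
    rw [hw, D.π_mul _ (inv_mem hq.1) _ hA.1, red_add, B.τ_comm (B.P_R p1), π_inv D hq.1, hq.2,
      B.wR_P p1.2, w1, add_self]
  have hX : B.τ * bt B q * B.τ⁻¹ = bt B q * q * w := by rw [hw]; group
  have hcw : c * w * c⁻¹ = w := B.fix_V (B.N_fix hcN).1 (B.N_fix hcN).2 hwV
  have hct : B.τ⁻¹ * c = c * B.τ⁻¹ := (show Commute B.τ c from h1).inv_left.eq
  have hci : B.τ⁻¹ * c⁻¹ = c⁻¹ * B.τ⁻¹ := (show Commute B.τ c from h1).inv_left.inv_right.eq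
  have e : c * (B.τ * bt B q * B.τ⁻¹) * c⁻¹ = B.τ * (c * bt B q * c⁻¹) * B.τ⁻¹ := by
    calc c * (B.τ * bt B q * B.τ⁻¹) * c⁻¹ = c * B.τ * bt B q * (B.τ⁻¹ * c⁻¹) := by group
      _ = B.τ * c * bt B q * (c⁻¹ * B.τ⁻¹) := by rw [h1, hci]
      _ = _ := by group
  rw [hcb, show B.τ * (bt B p * bt B q) * B.τ⁻¹ = B.τ * bt B p * B.τ⁻¹ * (B.τ * bt B q * B.τ⁻¹) by group,
    hX, show c * (bt B q * q * w) * c⁻¹ = c * bt B q * c⁻¹ * (c * q * c⁻¹) * (c * w * c⁻¹) by group, hcb,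
    hcw, conj_eq_com c q, ← hpd] at e
  have hcomm := bt_comm_lift B ht hu hq hp hb
  calc B.τ * bt B p * B.τ⁻¹ = B.τ * bt B p * B.τ⁻¹ * (bt B q * q * w) * (bt B q * q * w)⁻¹ := by group
    _ = bt B p * bt B q * (p * q) * w * (bt B q * q * w)⁻¹ := by rw [← e]
    _ = bt B p * (bt B q * p) * (bt B q)⁻¹ := by group
    _ = bt B p * p := by rw [← hcomm]; group

/-! ### The generators -/

/-- The lifts of the three commuting roots. -/
noncomputable def nv (i : Fin 3) : G := lf B [rp i]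

/-- The lifts of the triangular elements. -/
noncomputable def cv (i : Fin 3) : G := lf B [cp i]

/-- A lift of the last dual vector. -/
noncomputable def ayTop (_B : Base D) : G := (D.π_surj y3).choose

/-- The lifts of the dual vectors. -/
noncomputable def ay (i : Fin 3) : G :=
  ![com (cv B 0) (com (cv B 1) (ayTop B)), com (cv B 1) (ayTop B), ayTop B] i

/-- The lifts of the basis vectors. -/
noncomputable def av (i : Fin 3) : G :=
  ![com (nv B 1) (ay B 2), com (nv B 0) (ay B 2), com (nv B 0) (ay B 1)] i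

theorem sw_xv (i : Fin 3) : SW (xv i) := ⟨(xv_yv_facts.1 i).1, (xv_yv_facts.1 i).2.2.1⟩

theorem sw_yv (i : Fin 3) : SW (yv i) := ⟨(xv_yv_facts.1 i).2.1, (xv_yv_facts.1 i).2.2.2⟩

theorem okW_rp : ∀ i : Fin 3, okW [rp i] := by decide +kernel

theorem cancel_mid {u v : M8} : u + v + u = v := by rw [add_comm u v, add_assoc, add_self, add_zero]

theorem ay_lift : ∀ i, Lift D (yv i) (ay B i) := by
  have h2 : Lift D y3 (ayTop B) := (D.π_surj y3).choose_spec
  have h1 : Lift D y2 (com (cv B 1) (ayTop B)) := by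
    have h := h2.lf B (cp_ok 1)
    rwa [cp_disp.2.1, cancel_mid] at h
  have h0 : Lift D y1 (com (cv B 0) (com (cv B 1) (ayTop B))) := by
    have h := h1.lf B (cp_ok 0)
    rwa [cp_disp.1, cancel_mid] at h
  intro i
  fin_cases i
  exacts [h0, h1, h2]

theorem av_lift : ∀ i, Lift D (xv i) (av B i) := by
  obtain ⟨-, r1, r2, r3, r4, r5, r6⟩ := root_disp 0
  have h0 : Lift D x1 (com (nv B 1) (ay B 2)) := by
    have h := (ay_lift B 2).lf B (okW_rp 1)
    change Lift D (smL [rp 1] y3 + y3) _ at h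
    rwa [r4, cancel_mid] at h
  have h1 : Lift D x2 (com (nv B 0) (ay B 2)) := by
    have h := (ay_lift B 2).lf B (okW_rp 0)
    change Lift D (smL [rp 0] y3 + y3) _ at h
    rwa [r2, cancel_mid] at h
  have h2 : Lift D x3 (com (nv B 0) (ay B 1)) := by
    have h := (ay_lift B 1).lf B (okW_rp 0)
    change Lift D (smL [rp 0] y2 + y2) _ at h
    rwa [r1, cancel_mid] at h
  intro i
  fin_cases i
  exacts [h0, h1, h2]

theorem nv_spec (i : Fin 3) : nv B i ∈ B.N ∧ hact D (nv B i) = sgL [rp i] ∧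
    B.τ * nv B i = nv B i * B.τ ∧ B.τ' * nv B i = nv B i * B.τ' := lf_spec B (okW_rp i)

theorem cv_spec (i : Fin 3) : cv B i ∈ B.N ∧ hact D (cv B i) = sgL [cp i] ∧
    B.τ * cv B i = cv B i * B.τ ∧ B.τ' * cv B i = cv B i * B.τ' := lf_spec B (cp_ok i)

theorem rList_two : ∀ i : Fin 3, rList (2 ^ i.val) = [rp i] := by decide +kernel

theorem nv_mul_eq (i j : Fin 3) : nv B i * nv B j = lf B (rList (2 ^ i.val ^^^ 2 ^ j.val)) := by
  have hi : 2 ^ i.val < 8 := by fin_cases i <;> norm_num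
  have hj : 2 ^ j.val < 8 := by fin_cases j <;> norm_num
  rw [nv, nv, lf_mul B (okW_rp i) (okW_rp j)]
  refine lf_congr B ((okW_rp i).append (okW_rp j)) (rList_ok _ (Nat.xor_lt_two_pow (n := 3) hi hj)) fun m => ?_
  rw [← rList_two i, ← rList_two j]
  exact rList_xor _ hi _ hj m

theorem rList_zero : rList 0 = [] := by decide

theorem nv_comm (i j : Fin 3) : nv B i * nv B j = nv B j * nv B i := by
  rw [nv_mul_eq, nv_mul_eq, Nat.xor_comm]

theorem nv_sq (i : Fin 3) : nv B i * nv B i = 1 := by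
  have h0 : okW (rList 0) := rList_ok 0 (by norm_num)
  rw [nv_mul_eq, Nat.xor_self]
  refine (lf_unique B h0 (one_mem _) ?_ (by rw [mul_one, one_mul]) (by rw [mul_one, one_mul])).symm
  rw [hact_Q (one_mem _), rList_zero]
  rfl

variable {B}

theorem Good.nv_bit (hB : Good B) (j : Fin 3) {t : M8} {c : ZMod 2} (ht : Sees (gList (2 ^ j.val)) t c)
    {q : G} (hq : Lift D t q) : nv B j * q * (nv B j)⁻¹ = q * (if c = 0 then 1 else z) := by
  have hj : 2 ^ j.val < 8 ∧ 2 ^ j.val ≠ 0 ∧ 2 ^ j.val ≠ 7 := by fin_cases j <;> norm_num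
  refine hB.conj_bit (okW_rp j) (gList_ok _ hj.1) (gList_pool _ hj.1) (fun m => ?_) ht hq.1 hq.2
  rw [← rList_two j]
  exact gList_conj _ hj.1 hj.2.1 hj.2.2 m

theorem Good.nv_av (hB : Good B) (j i : Fin 3) : nv B j * av B i * (nv B j)⁻¹ = av B i := by
  rw [hB.nv_bit j (sees_x j i) (av_lift B i), if_pos rfl, mul_one]

theorem Good.nv_ay_self (hB : Good B) (j : Fin 3) : nv B j * ay B j * (nv B j)⁻¹ = ay B j * z := by
  rw [hB.nv_bit j (sees_y j) (ay_lift B j), if_neg one_ne_zero]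

theorem Good.mixed (hB : Good B) {i j : Fin 3} (hij : i ≠ j) {u : M8} (hu : SW u)
    (hp : Lift D u (com (nv B i) (ay B j))) (hp' : Lift D u (com (nv B j) (ay B i))) (hb : bf u (yv i) = 0)
    (hfix : Sees (gList (2 ^ i.val)) u 0) :
    com (nv B j) (ay B i) = com (nv B i) (ay B j) * z := by
  have hs : 2 ^ i.val ^^^ 2 ^ j.val < 8 ∧ 2 ^ i.val ^^^ 2 ^ j.val ≠ 0 ∧ 2 ^ i.val ^^^ 2 ^ j.val ≠ 7 := by
    fin_cases i <;> fin_cases j <;> simp_all
  have hl := hB.conj_bit (rList_ok _ hs.1) (gList_ok _ hs.1) (gList_pool _ hs.1)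
    (gList_conj _ hs.1 hs.2.1 hs.2.2) (sees_pair i j hij) (mul_mem (ay_lift B i).1 (ay_lift B j).1)
    (by rw [D.π_mul _ (ay_lift B i).1 _ (ay_lift B j).1, (ay_lift B i).2, (ay_lift B j).2])
  rw [← nv_mul_eq, if_neg one_ne_zero] at hl
  have e1 := hB.nv_ay_self i
  have e2 := hB.nv_ay_self j
  have e3 := hB.nv_bit i hfix hp'
  rw [if_pos rfl, mul_one] at e3
  have hnz := (B.N_fix (nv_spec B i).1).1
  obtain ⟨p, hpd⟩ : ∃ p, p = com (nv B i) (ay B j) := ⟨_, rfl⟩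
  obtain ⟨p', hpd'⟩ : ∃ p', p' = com (nv B j) (ay B i) := ⟨_, rfl⟩
  have c1 := conj_eq_com (nv B i) (ay B j)
  have c2 := conj_eq_com (nv B j) (ay B i)
  rw [← hpd] at c1 hp ⊢
  rw [← hpd'] at c2 hp' e3 ⊢
  have hqz : ∀ x ∈ D.Q, z * x = x * z := fun x hx => (D.pre.gen.comm_z x hx).eq.symm
  have hsum : nv B i * nv B j * (ay B i * ay B j) * (nv B i * nv B j)⁻¹ = p' * (ay B i * p * ay B j) := by
    calc _ = nv B i * ((nv B j * ay B i * (nv B j)⁻¹) * (nv B j * ay B j * (nv B j)⁻¹)) * (nv B i)⁻¹ := by group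
      _ = (nv B i * p' * (nv B i)⁻¹) * (nv B i * ay B i * (nv B i)⁻¹) * (nv B i * ay B j * (nv B i)⁻¹) *
          (nv B i * z * (nv B i)⁻¹) := by rw [c2, e2]; group
      _ = p' * (ay B i * (z * (p * ay B j)) * z) := by rw [e3, e1, c1, hnz]; group
      _ = p' * (ay B i * (p * ay B j * (z * z))) := by
        rw [hqz _ (mul_mem hp.1 (ay_lift B j).1)]; group
      _ = _ := by rw [D.pre.gen.sq]; group
  rw [hsum, ← (hp.comm (ay_lift B i) hb), show p' * (p * ay B i * ay B j) = p' * p * (ay B i * ay B j) by group,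
    ← hqz _ (mul_mem (ay_lift B i).1 (ay_lift B j).1)] at hl
  rw [← mul_inv_eq_iff_eq_mul.2 (mul_right_cancel hl).symm, hp.inv hu.2, hqz _ hp.1]

theorem Good.relations (hB : Good B) :
    com (nv B 0) (ay B 1) = av B 2 ∧ com (nv B 0) (ay B 2) = av B 1 ∧ com (nv B 1) (ay B 2) = av B 0 ∧
    com (nv B 1) (ay B 0) = av B 2 * z ∧ com (nv B 2) (ay B 0) = av B 1 * z ∧
    com (nv B 2) (ay B 1) = av B 0 * z := by
  obtain ⟨-, r1, r2, r3, r4, r5, r6⟩ := root_disp 0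
  refine ⟨rfl, rfl, rfl, ?_, ?_, ?_⟩
  · refine hB.mixed (i := 0) (j := 1) (by decide) (sw_xv 2) (av_lift B 2) ?_ (by decide +kernel) (sees_x 0 2)
    have h := (ay_lift B 0).lf B (okW_rp 1)
    change Lift D (smL [rp 1] y1 + y1) _ at h
    rwa [r3, cancel_mid] at h
  · refine hB.mixed (i := 0) (j := 2) (by decide) (sw_xv 1) (av_lift B 1) ?_ (by decide +kernel) (sees_x 0 1)
    have h := (ay_lift B 0).lf B (okW_rp 2)
    change Lift D (smL [rp 2] y1 + y1) _ at h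
    rwa [r5, cancel_mid] at h
  · refine hB.mixed (i := 1) (j := 2) (by decide) (sw_xv 0) (av_lift B 0) ?_ (by decide +kernel) (sees_x 1 0)
    have h := (ay_lift B 1).lf B (okW_rp 2)
    change Lift D (smL [rp 2] y2 + y2) _ at h
    rwa [r6, cancel_mid] at h

end CfsgLib.Co1Golay
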