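import Cfsg.Agent.Co1Golay.Facts
import Cfsg.Agent.Co1Five.Normal

/-!
Lifts of the isometries fixing the hyperbolic pair, and the choice of coordinates in which the
standard root element centralises the preimage of the first family.
-/

set_option autoImplicit false
set_option maxRecDepth 100000
set_option synthInstance.maxSize 4096
set_option linter.style.haveILetI false
set_option linter.unusedSectionVars false

namespace CfsgLib.Co1Golay

open CfsgLib CfsgLib.Quad CfsgLib.Co1Invol Subgroup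

variable {G : Type*} [Group G] [Finite G] {z : G} {D : Dat z} (B : Base D)

open Classical in
/-- The lift fixed by the two transpositions. -/
noncomputable def lf (l : List (M8 × M8)) : G :=
  if h : okW l then (B.lev_lift (sgL_lev l h)).choose else 1

theorem lf_spec {l : List (M8 × M8)} (h : okW l) : lf B l ∈ B.N ∧ hact D (lf B l) = sgL l ∧
    B.τ * lf B l = lf B l * B.τ ∧ B.τ' * lf B l = lf B l * B.τ' := by
  rw [lf, dif_pos h]
  exact (B.lev_lift (sgL_lev l h)).choose_spec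

theorem lf_unique {l : List (M8 × M8)} (h : okW l) {n : G} (hn : n ∈ B.N) (ha : hact D n = sgL l)
    (h1 : B.τ * n = n * B.τ) (h2 : B.τ' * n = n * B.τ') : n = lf B l := by
  obtain ⟨k1, k2, k3, k4⟩ := lf_spec B h
  exact B.lift_unique k1 hn (k2.trans ha.symm) k3 k4 h1 h2

theorem okW.append {l l' : List (M8 × M8)} (h : okW l) (h' : okW l') : okW (l ++ l') := fun p hp => by
  rcases List.mem_append.1 hp with hp | hp
  exacts [h p hp, h' p hp]

theorem lf_mul {l l' : List (M8 × M8)} (h : okW l) (h' : okW l') : lf B l * lf B l' = lf B (l ++ l') := by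
  obtain ⟨a1, a2, a3, a4⟩ := lf_spec B h
  obtain ⟨b1, b2, b3, b4⟩ := lf_spec B h'
  exact lf_unique B (h.append h') (mul_mem a1 b1)
    (by rw [hact_mul (B.N_C a1) (B.N_C b1), a2, b2, sgL_append])
    ((show Commute B.τ _ from a3).mul_right b3).eq ((show Commute B.τ' _ from a4).mul_right b4).eq

theorem lf_congr {l l' : List (M8 × M8)} (h : okW l) (h' : okW l') (he : ∀ m, smL l m = smL l' m) :
    lf B l = lf B l' := by
  obtain ⟨a1, a2, a3, a4⟩ := lf_spec B h
  exact lf_unique B h' a1 (by rw [a2, sgL_eq h.ok h'.ok he]) a3 a4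

theorem lf_fix {l : List (M8 × M8)} (h : okW l) :
    lf B l * z * (lf B l)⁻¹ = z ∧ lf B l * B.s * (lf B l)⁻¹ = B.s := B.N_fix (lf_spec B h).1

theorem π_lf {l : List (M8 × M8)} (h : okW l) {q : G} (hq : q ∈ D.Q) :
    lf B l * q * (lf B l)⁻¹ ∈ D.Q ∧ D.π (lf B l * q * (lf B l)⁻¹) = smL l (D.π q) := by
  obtain ⟨a1, a2, -, -⟩ := lf_spec B h
  obtain ⟨h1, h2⟩ := π_conj (B.N_C a1) hq
  exact ⟨h1, by rw [h2, a2, sgL_apply l h.ok]⟩

theorem okW_root : okW [(x1, x2)] := by decide +kernel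

/-- The coordinates are adapted to the first family. -/
def Good : Prop := B.bit (lf B [(x1, x2)]) x3 = 0

variable {B}

theorem sgL_root : sgL [(x1, x2)] = root := mul_one _

theorem Good.bit_root (hB : Good B) {q : G} (hq : q ∈ D.Q) (hp : D.π q ∈ perp12) :
    lf B [(x1, x2)] * q * (lf B [(x1, x2)])⁻¹ = q * (if mu 0 (D.π q) = 0 then 1 else z) := by
  obtain ⟨k1, k2, k3, k4⟩ := lf_spec B okW_root
  rw [sgL_root] at k2
  obtain ⟨i, hi⟩ := B.exists_twist k1 k2 k3 k4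
  have h3 : bf x3 e0 = 0 ∧ red x3 = x3 ∧ x3 ∈ perp12 ∧ ∀ j : ZMod 2, mu j x3 = j := by decide +kernel
  have h4 := hi x3 h3.1 (by rw [h3.2.1]; exact h3.2.2.1)
  rw [hB, h3.2.1, h3.2.2.2] at h4
  subst h4
  obtain ⟨hw, p1, p2⟩ := perp12_facts _ hp
  have he := (wList_perp _ hw).1
  have hfix : (hact D (lf B [(x1, x2)])).1 (D.π q) = D.π q := by
    rw [k2, root_apply, long_facts.1 _ p1 p2]
  rw [B.bit_spec k1 hq hfix, hi _ he (by rw [red_wList hw]; exact hp), red_wList hw]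

/-- The twist of a root element, read through a conjugation. -/
theorem Good.conj_bit (hB : Good B) {l g : List (M8 × M8)} (hl : okW l) (hg : okW g) (hgp : inPool g)
    (hconj : ∀ m, smL (g ++ [(x1, x2)]) m = smL (l ++ g) m) {t : M8} {c : ZMod 2} (ht : Sees g t c)
    {q : G} (hq : q ∈ D.Q) (hπ : D.π q = t) :
    lf B l * q * (lf B l)⁻¹ = q * (if c = 0 then 1 else z) := by
  obtain ⟨g1, g2, -, -⟩ := lf_spec B hg
  have he : lf B g * lf B [(x1, x2)] = lf B l * lf B g := by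
    rw [lf_mul B hg okW_root, lf_mul B hl hg, lf_congr B (hg.append okW_root) (hl.append hg) hconj]
  obtain ⟨m, hm, hmt, hmc⟩ := ht
  have hgm : (sgL g).1 m = t := by rw [sgL_apply g hg.ok, smL_val hgp hmt]
  obtain ⟨hq0, hq0π⟩ := π_conj (D := D) (inv_mem (B.N_C g1)) hq
  rw [inv_inv, hact_inv (B.N_C g1), g2, hπ] at hq0π
  rw [inv_inv] at hq0
  have hq0m : D.π ((lf B g)⁻¹ * q * lf B g) = m := by
    rw [hq0π, ← hgm]
    exact (sgL g).1.symm_apply_apply m
  have h := hB.bit_root hq0 (by rw [hq0m]; exact hm)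
  rw [hq0m, hmc] at h
  have hz := (lf_fix B hg).1
  have hl' : lf B l = lf B g * lf B [(x1, x2)] * (lf B g)⁻¹ := by rw [he, mul_inv_cancel_right]
  calc lf B l * q * (lf B l)⁻¹
      = lf B g * (lf B [(x1, x2)] * ((lf B g)⁻¹ * q * lf B g) * (lf B [(x1, x2)])⁻¹) * (lf B g)⁻¹ := by
        rw [hl']; group
    _ = q * (lf B g * (if c = 0 then 1 else z) * (lf B g)⁻¹) := by rw [h]; group
    _ = q * (if c = 0 then 1 else z) := by split_ifs <;> [group; rw [hz]]

/-- Such coordinates exist. -/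
theorem exists_good (B : Base D) : ∃ D' : Dat z, D'.Q = D.Q ∧ ∃ B' : Base D', Good B' := by
  by_cases hB : Good B
  · exact ⟨D, rfl, B, hB⟩
  obtain ⟨k1, k2, k3, k4⟩ := lf_spec B okW_root
  rw [sgL_root] at k2
  obtain ⟨i, hi⟩ := B.exists_twist k1 k2 k3 k4
  have f3 : bf x3 e0 = 0 ∧ red x3 = x3 ∧ x3 ∈ perp12 ∧ ∀ j : ZMod 2, mu j x3 = j := by decide +kernel
  have g3 : bf y3 e0 = 0 ∧ red y3 = y3 ∧ y3 ∈ perp12 ∧ ∀ j : ZMod 2, mu j y3 = 1 + j := by decide +kernel
  have hi1 : i = 1 := by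
    refine (zmod2_cases i).resolve_left fun h0 => hB ?_
    rw [Good, hi x3 f3.1 (by rw [f3.2.1]; exact f3.2.2.1), f3.2.1, f3.2.2.2, h0]
  set h : O8 := refl q8 w2 with hh
  have happ : ∀ m, h.1 m = m + bf m w2 • w2 := fun m => by
    rw [hh, refl_apply, q8_eq, polar_eq, pair_facts.1]
    congr 2
    rw [inv_one, neg_mul, one_mul, CharTwo.neg_eq]
  have hf : e0 + bf e0 w2 • w2 = e0 ∧ f0 + bf f0 w2 • w2 = f0 ∧ x1 + bf x1 w2 • w2 = x1 ∧
      x2 + bf x2 w2 • w2 = x2 ∧ y3 + bf y3 w2 • w2 = x3 := by decide +kernel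
  have hhe : h.1 e0 = e0 := (happ e0).trans hf.1
  let B' : Base (Co1Five.twist D h) :=
    ⟨B.s, B.g, B.sQ, by show h.1 (D.π B.s) = e0; rw [B.πs, hhe], B.gz, B.gs⟩
  refine ⟨Co1Five.twist D h, rfl, B', ?_⟩
  have hτ'' : B'.τ = B.τ ∨ B'.τ = B.τ * z := by
    refine eq_of_π D B.τ_Q B'.τ_Q ?_
    apply h.1.injective
    rw [B.π_τ, (happ f0).trans hf.2.1]
    exact B'.π_τ.symm
  have hkz : lf B [(x1, x2)] * z = z * lf B [(x1, x2)] := (B.mem_N.1 k1).1
  have hks : lf B [(x1, x2)] * B.s = B.s * lf B [(x1, x2)] := (B.mem_N.1 k1).2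
  have h1 : B'.τ * lf B [(x1, x2)] = lf B [(x1, x2)] * B'.τ := by
    rcases hτ'' with e | e <;> rw [e]
    · exact k3
    · exact ((show Commute B.τ _ from k3).mul_left (show Commute z _ from hkz.symm)).eq
  have h2 : B'.τ' * lf B [(x1, x2)] = lf B [(x1, x2)] * B'.τ' := by
    show B.g * B'.τ * B.g⁻¹ * _ = _ * (B.g * B'.τ * B.g⁻¹)
    rcases hτ'' with e | e <;> rw [e]
    · exact k4
    · rw [show B.g * (B.τ * z) * B.g⁻¹ = B.τ' * B.s by rw [Base.τ', ← B.gz]; group]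
      exact ((show Commute B.τ' _ from k4).mul_left (show Commute B.s _ from hks.symm)).eq
  have hact' : hact (Co1Five.twist D h) (lf B [(x1, x2)]) = sgL [(x1, x2)] := by
    rw [Co1Five.hact_twist D h (B.N_C k1), k2, sgL_root, root,
      siegel_conj h (by rw [q8_eq, pair_facts.2.2.2.1]) (by rw [polar_eq, pair_facts.2.2.2.2.2.1]),
      (happ x1).trans hf.2.2.1, (happ x2).trans hf.2.2.2.1]
  have hk : lf B [(x1, x2)] = lf B' [(x1, x2)] := lf_unique B' okW_root k1 hact' h1 h2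
  obtain ⟨q, hq, hqπ⟩ := D.π_surj y3
  have hfix : (hact D (lf B [(x1, x2)])).1 (D.π q) = D.π q := by
    obtain ⟨-, p1, p2⟩ := perp12_facts _ g3.2.2.1
    rw [k2, root_apply, hqπ, long_facts.1 _ p1 p2]
  have hc := B.bit_spec k1 hq hfix
  rw [hqπ, hi y3 g3.1 (by rw [g3.2.1]; exact g3.2.2.1), g3.2.1, g3.2.2.2, hi1,
    show (1 : ZMod 2) + 1 = 0 from by decide, if_pos rfl] at hc
  have hq' : (Co1Five.twist D h).π q = x3 := by
    show h.1 (D.π q) = x3
    rw [hqπ, (happ y3).trans hf.2.2.2.2]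
  show B'.bit (lf B' [(x1, x2)]) x3 = 0
  rw [← hk, ← hq']
  refine B'.bit_eq k1 (q := q) hq ?_ 0 (by rw [if_pos rfl]; exact hc)
  obtain ⟨-, p1, p2⟩ := perp12_facts _ f3.2.2.1
  rw [hact', sgL_root, root_apply, hq', long_facts.1 _ p1 p2]

end CfsgLib.Co1Golay
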