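import Cfsg.Agent.Co1Golay.Elem
import Cfsg.Agent.Classical.Transvections
import Mathlib.LinearAlgebra.Matrix.GeneralLinearGroup.Card

/-!
The Levi subgroup of the stabiliser of the singular subspace, and the order of the normaliser of the
elementary subgroup inside the involution centraliser.
-/

set_option autoImplicit false
set_option maxRecDepth 100000
set_option synthInstance.maxSize 4096
set_option linter.style.haveILetI false
set_option linter.unusedSectionVars false

namespace CfsgLib.Co1Golay

open CfsgLib CfsgLib.Quad CfsgLib.Co1Invol Subgroup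
open Matrix

/-- Matrices of the Levi subgroup. -/
abbrev GL4 : Type := GL (Fin 4) (ZMod 2)

/-- The map given by a matrix and its contragredient. -/
def glFun (A : GL4) (m : M8) : M8 :=
  Sum.elim ((A : Matrix (Fin 4) (Fin 4) (ZMod 2)) *ᵥ (m ∘ Sum.inl))
    (((A⁻¹ : GL4) : Matrix (Fin 4) (Fin 4) (ZMod 2))ᵀ *ᵥ (m ∘ Sum.inr))

theorem qf_dot (m : M8) : qf m = (m ∘ Sum.inl) ⬝ᵥ (m ∘ Sum.inr) := by
  simp only [qf, dotProduct, Fin.sum_univ_four, Function.comp_apply]

theorem qf_glFun (A : GL4) (m : M8) : qf (glFun A m) = qf m := by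
  rw [qf_dot, qf_dot, glFun, Sum.elim_comp_inl, Sum.elim_comp_inr, Matrix.mulVec_transpose,
    dotProduct_comm, ← Matrix.dotProduct_mulVec, Matrix.mulVec_mulVec, ← Units.val_mul, inv_mul_cancel,
    Units.val_one, Matrix.one_mulVec, dotProduct_comm]

theorem glFun_mul (A A' : GL4) (m : M8) : glFun (A * A') m = glFun A (glFun A' m) := by
  unfold glFun
  rw [Sum.elim_comp_inl, Sum.elim_comp_inr, Matrix.mulVec_mulVec, Matrix.mulVec_mulVec, Units.val_mul,
    _root_.mul_inv_rev, Units.val_mul, Matrix.transpose_mul]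

theorem glFun_one (m : M8) : glFun 1 m = m := by
  unfold glFun
  rw [inv_one, Units.val_one, Matrix.transpose_one, Matrix.one_mulVec, Matrix.one_mulVec]
  exact Sum.elim_comp_inl_inr m

theorem glFun_add (A : GL4) (m n : M8) : glFun A (m + n) = glFun A m + glFun A n := by
  unfold glFun
  funext i
  rcases i with i | i <;>
    simp [show (m + n) ∘ Sum.inl = m ∘ Sum.inl + n ∘ Sum.inl from rfl,
      show (m + n) ∘ Sum.inr = m ∘ Sum.inr + n ∘ Sum.inr from rfl, Matrix.mulVec_add]

theorem glFun_smul (A : GL4) (c : ZMod 2) (m : M8) : glFun A (c • m) = c • glFun A m := by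
  unfold glFun
  funext i
  rcases i with i | i <;>
    simp [show (c • m) ∘ Sum.inl = c • (m ∘ Sum.inl) from rfl,
      show (c • m) ∘ Sum.inr = c • (m ∘ Sum.inr) from rfl, Matrix.mulVec_smul]

/-- The embedding of the general linear group. -/
def glHom : GL4 →* O8 where
  toFun A := ⟨{ toFun := glFun A
                map_add' := glFun_add A
                map_smul' := glFun_smul A
                invFun := glFun A⁻¹
                left_inv := fun m => by rw [← glFun_mul, inv_mul_cancel, glFun_one]
                right_inv := fun m => by rw [← glFun_mul, mul_inv_cancel, glFun_one] },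
    fun m => by rw [q8_eq, q8_eq]; exact qf_glFun A m⟩
  map_one' := ext8 glFun_one
  map_mul' A A' := ext8 (glFun_mul A A')

theorem glHom_apply (A : GL4) (m : M8) : (glHom A).1 m = glFun A m := rfl

theorem glHom_inW (A : GL4) {w : M8} (hw : inW w) : inW ((glHom A).1 w) := by
  intro i
  rw [glHom_apply, glFun, Sum.elim_inr, show w ∘ Sum.inr = 0 from funext hw, Matrix.mulVec_zero]
  rfl

theorem glHom_mem (A : GL4) : glHom A ∈ commutator (oGroup q8) := by
  have h : commutator GL4 = ⊤ := by
    rw [CfsgLib.Linear.commutator_GL_eq (Or.inl (by simp)), eq_top_iff]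
    intro x _
    exact MonoidHom.mem_ker.2 (Subsingleton.elim _ _)
  have hle : (commutator GL4).map glHom ≤ commutator (oGroup q8) := by
    rw [map_commutator_eq]
    exact Subgroup.commutator_mono le_top le_top
  exact hle ⟨A, h.symm ▸ mem_top A, rfl⟩

theorem glHom_injective_W {A A' : GL4} (h : ∀ w, inW w → (glHom A).1 w = (glHom A').1 w) : A = A' := by
  refine Units.ext (Matrix.ext_of_mulVec_single fun j => ?_)
  have := h (Sum.elim (Pi.single j 1) 0) (fun i => rfl)
  rw [glHom_apply, glHom_apply, glFun, glFun, Sum.elim_comp_inl] at this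
  exact funext fun i => congrFun this (Sum.inl i)

theorem card_GL4 : Nat.card GL4 = 20160 := by
  rw [Matrix.card_GL_field]
  simp [Fin.prod_univ_four, ZMod.card]

variable {G : Type*} [Group G] [Finite G] {z : G} {D : Dat z} {B : Base D}

theorem inW_inv {g : O8} (h : ∀ w, inW w → inW (g.1 w)) {w : M8} (hw : inW w) : inW ((g⁻¹).1 w) := by
  obtain ⟨⟨u, hu⟩, he⟩ := Finite.surjective_of_injective
    (f := fun u : {w // inW w} => (⟨g.1 u.1, h u.1 u.2⟩ : {w // inW w}))
    (fun a b e => Subtype.ext (g.1.injective (congrArg Subtype.val e))) ⟨w, hw⟩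
  have he' : g.1 u = w := congrArg Subtype.val he
  rw [← he']
  show inW (g.1.symm (g.1 u))
  rw [g.1.symm_apply_apply]
  exact hu

theorem mem_normalizer_of (hB : Good B) {c : G} (h : ∀ x ∈ Ab B hB, c * x * c⁻¹ ∈ Ab B hB) :
    c ∈ normalizer (Ab B hB : Set G) := by
  have heq : (Ab B hB).map (MulAut.conj c).toMonoidHom = Ab B hB :=
    eq_of_le_of_card_ge (map_le_iff_le_comap.2 fun x hx => h x hx)
      (le_of_eq (card_map_of_injective (MulAut.conj c).injective).symm)
  refine mem_normalizer_iff.2 fun x => ⟨h x, fun hx => ?_⟩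
  obtain ⟨y, hy, he⟩ := heq.symm ▸ hx
  have : y = x := mul_left_cancel (mul_right_cancel he)
  exact this ▸ hy

theorem mem_normalizer_of_W (hB : Good B) {c : G} (hc : c ∈ centralizer ({z} : Set G))
    (h : ∀ w, inW w → inW ((hact D c).1 w)) : c ∈ normalizer (Ab B hB : Set G) :=
  mem_normalizer_of hB fun _ hx => conj_mem_Ab hB hc (fun _ hw => inW_inv h hw) hx

theorem exists_lift_C (D : Dat z) {g : O8} (h : g ∈ commutator (oGroup q8)) :
    ∃ c ∈ centralizer ({z} : Set G), hact D c = g := by
  obtain ⟨c, hc⟩ := D.act_surj g h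
  exact ⟨c, c.2, by rw [hact_eq c.2, ← hc]⟩

/-- The normaliser has large order in the involution centraliser. -/
theorem card_normalizer_C (hB : Good B) : 2048 * 322560 ≤
    Nat.card ↥(normalizer (Ab B hB : Set G) ⊓ centralizer ({z} : Set G)) := by
  choose c hc hca using fun A => exists_lift_C D (glHom_mem A)
  have hA : ∀ A, c A ∈ normalizer (Ab B hB : Set G) := fun A =>
    mem_normalizer_of_W hB (hc A) fun w hw => by rw [hca]; exact glHom_inW A hw
  have hQ : ∀ q ∈ D.Q, q ∈ normalizer (Ab B hB : Set G) := fun q hq =>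
    mem_normalizer_of_W hB (mem_C D hq) fun w hw => by rw [hact_Q hq]; exact hw
  let f : (D.Q × Fin 64) × GL4 → ↥(normalizer (Ab B hB : Set G) ⊓ centralizer ({z} : Set G)) := fun p =>
    ⟨(p.1.1 : G) * phi B (32 * p.1.2.val) * c p.2, mem_inf.2
      ⟨mul_mem (mul_mem (hQ _ p.1.1.2) (le_normalizer (phi_mem hB _))) (hA _),
        mul_mem (mul_mem (mem_C D p.1.1.2) (hact_phi B _).1) (hc _)⟩⟩
  have hf : Function.Injective f := by
    rintro ⟨⟨⟨q, hq⟩, k⟩, A⟩ ⟨⟨⟨q', hq'⟩, k'⟩, A'⟩ he
    have e : q * phi B (32 * k.val) * c A = q' * phi B (32 * k'.val) * c A' := congrArg Subtype.val he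
    have hh := congrArg (hact D) e
    rw [hact_mul (mul_mem (mem_C D hq) (hact_phi B _).1) (hc A), hact_mul (mem_C D hq) (hact_phi B _).1,
      hact_mul (mul_mem (mem_C D hq') (hact_phi B _).1) (hc A'), hact_mul (mem_C D hq') (hact_phi B _).1,
      hact_Q hq, hact_Q hq', one_mul, one_mul, hca, hca] at hh
    have hfix : ∀ (k : Fin 64) (w : M8), inW w → (hact D (phi B (32 * k.val))).1 w = w := by
      intro k w hw
      rw [expand4 w]
      have h0 : ∀ i, bf w (xb i) = 0 := (inW_iff_xb w).1 hw
      simp only [map_sum, map_add, map_smul, phi_fix B (show 32 * k.val < 2048 by omega), h0, zero_smul,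
        LinearEquiv.map_zero, add_zero]
    have hAA : A = A' := glHom_injective_W fun w hw => by
      rw [← hfix k _ (glHom_inW A hw), ← hfix k' _ (glHom_inW A' hw)]
      exact LinearEquiv.congr_fun (congrArg Subtype.val hh) w
    subst hAA
    have hk := mul_right_cancel hh
    have hkk : k = k' := by
      refine Fin.ext (?_ : k.val = k'.val)
      have hb : ∀ a < 64, ∀ b < 64, (∀ i j : Fin 4, (mBit a i j : ZMod 2) = mBit b i j) → a = b := by
        decide +kernel
      refine hb _ k.2 _ k'.2 fun i j => ?_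
      have h1 := phi_matrix B (m := 32 * k.val) (by omega) i j
      have h2 := phi_matrix B (m := 32 * k'.val) (by omega) i j
      rw [Nat.mul_div_cancel_left _ (by norm_num : 0 < 32)] at h1 h2
      rw [← h1, ← h2, hk]
    subst hkk
    have := mul_right_cancel (mul_right_cancel e)
    subst this
    rfl
  refine le_trans ?_ (Nat.card_le_card_of_injective f hf)
  rw [Nat.card_prod, Nat.card_prod, D.card, Nat.card_fin, card_GL4]

end CfsgLib.Co1Golay
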