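import Cfsg.Agent.Co1Golay.Sylow

/-!
The maximal two-local subgroup with the Mathieu group on top.
-/

set_option autoImplicit false

namespace CfsgLib.Co1Golay

open CfsgLib CfsgLib.Quad CfsgLib.Co1Invol Subgroup

variable {G : Type*} [Group G] [Finite G] {z : G}

/-- An elementary abelian subgroup of order `2048` whose normaliser is a split extension. -/
theorem main (D : Dat z) {g₀ : G} (h₀ : g₀ * z * g₀⁻¹ ∈ D.Q) (hne : g₀ * z * g₀⁻¹ ≠ z) :
    ∃ A : Subgroup G, Cfsg.IsElementaryAbelian 2 A ∧ Nat.card A = 2 ^ 11 ∧ z ∈ A ∧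
      ∃ _ : (A.subgroupOf (normalizer (A : Set G))).Normal,
        Nonempty (↥(normalizer (A : Set G)) ⧸ A.subgroupOf (normalizer (A : Set G)) ≃* ↥Cfsg.M24) ∧
        (∃ K : Subgroup ↥(normalizer (A : Set G)), (A.subgroupOf (normalizer (A : Set G))).IsComplement' K) ∧
        ∃ a ∈ A, ∃ b ∈ A, a ≠ 1 ∧ b ≠ 1 ∧ (∀ n ∈ normalizer (A : Set G), n * a * n⁻¹ ≠ b) ∧
          ∀ c ∈ A, c ≠ 1 → ∃ n ∈ normalizer (A : Set G), n * c * n⁻¹ = a ∨ n * c * n⁻¹ = b := by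
  obtain ⟨B₀⟩ := exists_base D h₀ hne
  obtain ⟨D', -, B, hB⟩ := exists_good B₀
  obtain ⟨Su⟩ := B.exists_pr basis_mem.1 basis_mem.2.1
  obtain ⟨St⟩ := B.exists_pr basis_mem.2.2.2.2.2.2.1 basis_mem.2.2.2.2.2.2.2.1
  haveI : ((Ab B hB).subgroupOf (normalizer (Ab B hB : Set G))).Normal := normal_in_normalizer
  obtain ⟨θ, -, hker, hsurj, -⟩ := exists_iso St Su hB
  exact ⟨Ab B hB, Ab_elementary hB, card_Ab hB, gens_mem hB ((mem_gens B).2 (Or.inl rfl)), inferInstance,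
    ⟨(QuotientGroup.quotientMulEquivOfEq hker.symm).trans (QuotientGroup.quotientKerEquivOfSurjective θ hsurj)⟩,
    exists_split St Su hB, two_orbits St Su hB⟩

end CfsgLib.Co1Golay
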