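import Cfsg.Agent.Co1Golay.Elem

/-!
The five elements moving the elementary subgroup, as matrices on masks.
-/

set_option autoImplicit false
set_option maxRecDepth 100000
set_option synthInstance.maxSize 4096
set_option linter.style.haveILetI false
set_option linter.unusedSectionVars false

namespace CfsgLib.Co1Golay

open CfsgLib CfsgLib.Quad CfsgLib.Co1Invol Subgroup
open CfsgLib.Golay (comb)

variable {G : Type*} [Group G] [Finite G] {z : G} {D : Dat z} (B : Base D)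

/-- The moving elements. -/
noncomputable def mv (j : Fin 5) : G := ![B.τ, B.τ', ay B 0, ay B 1, ay B 2] j

/-- Their matrices. -/
def mM (j : Fin 5) : List ℕ :=
  ![[1, 3, 4, 8, 16, 36, 72, 144, 256, 512, 1024],
    [3, 2, 36, 72, 144, 32, 64, 128, 256, 512, 1024],
    [1, 2, 5, 8, 16, 35, 64, 128, 257, 529, 1033],
    [1, 2, 4, 9, 16, 32, 67, 128, 272, 513, 1029],
    [1, 2, 4, 8, 17, 32, 64, 131, 264, 516, 1025]] j

theorem conj_lift_bf {t u : M8} {q x : G} (hq : Lift D t q) (hx : Lift D u x) :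
    q * x * q⁻¹ = (if bf t u = 0 then 1 else z) * x := by
  split_ifs with h
  · rw [one_mul, hq.comm hx h, mul_inv_cancel_right]
  · rcases Extra2.conj_eq D.pre.gen hq.1 hx.1 with e | e
    · exact absurd ((D.comm_iff q hq.1 x hx.1).1 (mul_inv_eq_iff_eq_mul.1 e)) (by rwa [hq.2, hx.2])
    · exact e

theorem phi_singles (i : Fin 3) : phi B (4 * 2 ^ i.val) = av B i ∧ phi B (32 * 2 ^ i.val) = bt B (av B i) ∧
    phi B (256 * 2 ^ i.val) = nv B i := by
  fin_cases i <;> simp [phi, gens, ev]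

theorem av_eq : av B 0 = com (nv B 1) (ay B 2) ∧ av B 1 = com (nv B 0) (ay B 2) ∧
    av B 2 = com (nv B 0) (ay B 1) := ⟨rfl, rfl, rfl⟩

theorem τ_bt_av : ∀ i, B.τ * bt B (av B i) * B.τ⁻¹ = bt B (av B i) * av B i := by
  have key : ∀ (i j : Fin 3) (t : Fin 3), bf (xv t) (yv j) = 0 → av B t = com (nv B i) (ay B j) →
      B.τ * bt B (av B t) * B.τ⁻¹ = bt B (av B t) * av B t := by
    intro i j t hb he
    obtain ⟨h1, -, h2, h3⟩ := nv_spec B i
    rw [he]
    exact τ_bt B h1 h2 h3 (sw_yv j) (sw_xv t) hb (ay_lift B j) (he ▸ av_lift B t)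
  intro i
  fin_cases i
  exacts [key 1 2 0 (by decide +kernel) (av_eq B).1, key 0 2 1 (by decide +kernel) (av_eq B).2.1,
    key 0 1 2 (by decide +kernel) (av_eq B).2.2]

theorem mv_τ (hB : Good B) : List.Forall₂ (fun g m => B.τ * g * B.τ⁻¹ = phi B m) (gens B) (mM 0) := by
  have hs := invList_gens B hB
  have hn : ∀ i, B.τ * nv B i * B.τ⁻¹ = nv B i := fun i => mul_inv_eq_iff_eq_mul.2 (nv_spec B i).2.2.1
  have hb : ∀ i, B.τ * bt B (av B i) * B.τ⁻¹ = av B i * bt B (av B i) := fun i => by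
    rw [τ_bt_av, hs.2 _ ((mem_gens B).2 (by tauto)) _ ((mem_gens B).2 (by tauto))]
  have hzs : B.τ * B.s * B.τ⁻¹ = z * B.s := by rw [B.τ_s, (D.pre.gen.comm_z _ B.sQ).eq]
  simp only [gens, mM, Matrix.cons_val_zero]
  refine .cons ?_ (.cons ?_ (.cons ?_ (.cons ?_ (.cons ?_ (.cons ?_ (.cons ?_ (.cons ?_ (.cons ?_ (.cons ?_
    (.cons ?_ .nil))))))))))
  all_goals
    first | rw [B.τ_z] | rw [hzs] | rw [τ_lift B (sw_xv _) (av_lift B _)] | rw [hb] | rw [hn]
    simp [phi, gens, ev]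

theorem mv_τ' (hB : Good B) : List.Forall₂ (fun g m => B.τ' * g * B.τ'⁻¹ = phi B m) (gens B) (mM 1) := by
  have hs := invList_gens B hB
  have hn : ∀ i, B.τ' * nv B i * B.τ'⁻¹ = nv B i := fun i => mul_inv_eq_iff_eq_mul.2 (nv_spec B i).2.2.2
  have ha : ∀ i, B.τ' * av B i * B.τ'⁻¹ = av B i * bt B (av B i) := fun i => by
    rw [(τ'_lift B (sw_xv i) (av_lift B i)).1, hs.2 _ ((mem_gens B).2 (by tauto)) _ ((mem_gens B).2 (by tauto))]
  have hzs : B.τ' * z * B.τ'⁻¹ = z * B.s := by rw [B.τ'_z, (D.pre.gen.comm_z _ B.sQ).eq]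
  have hb : ∀ i, B.τ' * bt B (av B i) * B.τ'⁻¹ = bt B (av B i) := fun i =>
    (τ'_lift B (sw_xv i) (av_lift B i)).2
  simp only [gens, mM, Matrix.cons_val_one, Matrix.head_cons, Matrix.cons_val_zero]
  refine .cons ?_ (.cons ?_ (.cons ?_ (.cons ?_ (.cons ?_ (.cons ?_ (.cons ?_ (.cons ?_ (.cons ?_ (.cons ?_
    (.cons ?_ .nil))))))))))
  all_goals
    first | rw [hzs] | rw [B.τ'_s] | rw [ha] | rw [hb] | rw [hn]
    simp [phi, gens, ev]

theorem phi_pair (hB : Good B) (i : Fin 3) : phi B (256 * 2 ^ i.val ^^^ 1) = nv B i * z := by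
  rw [phi_xor hB, (phi_singles B i).2.2, z_eq_phi]

theorem ay_images (hB : Good B) (j : Fin 3) :
    ay B j * z * (ay B j)⁻¹ = z ∧ ay B j * B.s * (ay B j)⁻¹ = B.s ∧
    (∀ i, ay B j * av B i * (ay B j)⁻¹ = phi B (4 * 2 ^ i.val ^^^ (if i = j then 1 else 0))) ∧
    (∀ i, ay B j * bt B (av B i) * (ay B j)⁻¹ = phi B (32 * 2 ^ i.val ^^^ (if i = j then 3 else 0))) ∧
    ∀ i, ay B j * nv B i * (ay B j)⁻¹ = nv B i * com (nv B i) (ay B j) := by
  have hj := ay_lift B j
  have hz : ay B j * z * (ay B j)⁻¹ = z := by rw [(D.pre.gen.comm_z _ hj.1).eq, mul_inv_cancel_right]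
  have hy : bf (yv j) e0 = 0 := (sw_yv j).perp
  refine ⟨hz, ?_, fun i => ?_, fun i => ?_, fun i => ?_⟩
  · rw [conj_lift_bf hj ⟨B.sQ, B.πs⟩, if_pos hy, one_mul]
  · have hb : bf (yv j) (xv i) = if i = j then 1 else 0 := by rw [bf_comm]; exact (xv_yv_facts.2 i j).2.2
    rw [conj_lift_bf hj (av_lift B i), hb, phi_xor hB, (phi_singles B i).1]
    by_cases h : i = j
    · rw [if_pos h, if_pos h, if_neg one_ne_zero, z_eq_phi, (D.pre.gen.comm_z _ (av_lift B i).1).eq]
    · rw [if_neg h, if_neg h, if_pos rfl, phi, ev_zero, one_mul, mul_one]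
  · have hb : bf (yv j) (xv i) = if i = j then 1 else 0 := by rw [bf_comm]; exact (xv_yv_facts.2 i j).2.2
    rw [conj_bt B (sw_xv i) (sw_yv j) (av_lift B i) hj, hb, phi_xor hB, (phi_singles B i).2.1]
    by_cases h : i = j
    · have h3 : phi B 3 = z * B.s := by simp [phi, gens, ev]
      have hg : ∀ g ∈ gens B, z * B.s * g = g * (z * B.s) := fun g hg => by
        have hs := invList_gens B hB
        exact ((show Commute z g from hs.2 _ ((mem_gens B).2 (by tauto)) _ hg).mul_left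
          (show Commute B.s g from hs.2 _ ((mem_gens B).2 (by tauto)) _ hg)).eq
      rw [if_pos h, if_pos h, if_neg one_ne_zero, h3, hg _ ((mem_gens B).2 (by tauto))]
    · rw [if_neg h, if_neg h, if_pos rfl, phi, ev_zero, one_mul, mul_one]
  · have hi : (nv B i)⁻¹ = nv B i := inv_eq_of_mul_eq_one_right (nv_sq B i)
    simp only [com, hi]
    rw [show nv B i * (nv B i * ay B j * nv B i * (ay B j)⁻¹) = nv B i * nv B i * (ay B j * nv B i * (ay B j)⁻¹)
      by group, nv_sq, one_mul]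

theorem com_self (hB : Good B) (j : Fin 3) : com (nv B j) (ay B j) = z := by
  rw [com, hB.nv_ay_self j, (D.pre.gen.comm_z _ (ay_lift B j).1).eq, mul_inv_cancel_right]

attribute [local irreducible] phi in
theorem mv_ay (hB : Good B) (j : Fin 3) :
    List.Forall₂ (fun g m => ay B j * g * (ay B j)⁻¹ = phi B m) (gens B) (mM ⟨j.val + 2, by omega⟩) := by
  obtain ⟨hz, hs, ha, hb, hn⟩ := ay_images B hB j
  obtain ⟨r1, r2, r3, r4, r5, r6⟩ := hB.relations
  have c0 := com_self B hB 0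
  have c1 := com_self B hB 1
  have c2 := com_self B hB 2
  have hp : ∀ (i k : Fin 3) (e : ℕ), (if e = 0 then 1 else z) = phi B e →
      phi B (256 * 2 ^ i.val ^^^ (4 * 2 ^ k.val ^^^ e)) = nv B i * (av B k * phi B e) := fun i k e _ => by
    rw [phi_xor hB, phi_xor hB, (phi_singles B i).2.2, (phi_singles B k).1]
  have hz1 : phi B 1 = z := z_eq_phi
  have key : ∀ i k : Fin 3, phi B (256 * 2 ^ i.val ^^^ (4 * 2 ^ k.val)) = nv B i * av B k ∧
      phi B (256 * 2 ^ i.val ^^^ (4 * 2 ^ k.val ^^^ 1)) = nv B i * (av B k * z) := fun i k =>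
    ⟨by rw [phi_xor hB, (phi_singles B i).2.2, (phi_singles B k).1],
      by rw [hp i k 1 (by simp [hz1]), hz1]⟩
  fin_cases j <;>
    simp only [Fin.zero_eta, Fin.mk_one, Fin.reduceFinMk] at hz hs ha hb hn ⊢ <;>
    refine .cons ?_ (.cons ?_ (.cons ?_ (.cons ?_ (.cons ?_ (.cons ?_ (.cons ?_ (.cons ?_ (.cons ?_ (.cons ?_
      (.cons ?_ .nil))))))))))
  all_goals first
    | (rw [hz]; exact hz1.symm)
    | (rw [hs]; simp [phi, gens, ev])
    | (rw [ha]; rfl)
    | (rw [hb]; rfl)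
    | (rw [hn]
       simp only [r4, r5, r6, c0, c1, c2, ← (av_eq B).1, ← (av_eq B).2.1, ← (av_eq B).2.2]
       first
         | exact (phi_pair B hB 0).symm
         | exact (phi_pair B hB 1).symm
         | exact (phi_pair B hB 2).symm
         | exact (key 0 2).1.symm
         | exact (key 0 1).1.symm
         | exact (key 1 0).1.symm
         | exact (key 1 2).2.symm
         | exact (key 2 1).2.symm
         | exact (key 2 0).2.symm)

variable {B}

theorem mv_conj (hB : Good B) (j : Fin 5) (m : ℕ) : mv B j * phi B m * (mv B j)⁻¹ = phi B (comb (mM j) m) := by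
  refine conj_ev (invList_gens B hB) (gens B) (mM j) ?_ m
  fin_cases j
  exacts [mv_τ B hB, mv_τ' B hB, mv_ay B hB 0, mv_ay B hB 1, mv_ay B hB 2]

theorem mv_mem_Q (j : Fin 5) (hj : j ≠ 1) : mv B j ∈ D.Q := by
  fin_cases j
  exacts [B.τ_Q, absurd rfl hj, (ay_lift B 0).1, (ay_lift B 1).1, (ay_lift B 2).1]

end CfsgLib.Co1Golay
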