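import Cfsg.Agent.Co1Golay.Moves
import Cfsg.Agent.Co1Golay.Levi
import Cfsg.Agent.Co1Golay.OrbitData

/-!
The intersection of the class of the central involution with the elementary subgroup is one orbit of
the normaliser.
-/

set_option autoImplicit false
set_option maxRecDepth 100000
set_option synthInstance.maxSize 4096
set_option linter.style.haveILetI false
set_option linter.unusedSectionVars false

namespace CfsgLib.Co1Golay

open CfsgLib CfsgLib.Quad CfsgLib.Co1Invol Subgroup
open CfsgLib.Golay (comb)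

/-! ### Certificates -/

/-- One step of a certificate. -/
def step (S p : ℕ) : ℕ :=
  if S.testBit (p / 8) && decide (p % 8 < 5) then
    S ||| 1 <<< comb (mM (Fin.ofNat 5 (p % 8))) (p / 8)
  else S

/-- Running a certificate. -/
def run : List ℕ → ℕ → ℕ
  | [], S => S
  | p :: L, S => withVal (step S p) fun S' => run L S'

/-- Running several certificates. -/
def runs : List (List ℕ) → ℕ → ℕ
  | [], S => S
  | c :: L, S => withVal (run c S) fun S' => runs L S'

/-- All bits satisfy a predicate. -/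
def AllBits (P : ℕ → Prop) (S : ℕ) : Prop := ∀ m, S.testBit m → P m

theorem run_sound {P : ℕ → Prop} (hP : ∀ j m, P m → P (comb (mM j) m)) :
    ∀ (L : List ℕ) (S : ℕ), AllBits P S → AllBits P (run L S)
  | [], _, h => h
  | p :: L, S, h => by
    rw [run, withVal_eq]
    refine run_sound hP L _ fun m hm => ?_
    rw [step] at hm
    split_ifs at hm with hc
    · rw [Bool.and_eq_true] at hc
      rw [Nat.testBit_or, Bool.or_eq_true] at hm
      rcases hm with hm | hm
      · exact h m hm
      · rw [Nat.one_shiftLeft, Nat.testBit_two_pow, decide_eq_true_eq] at hm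
        exact hm ▸ hP _ _ (h _ hc.1)
    · exact h m hm

theorem runs_sound {P : ℕ → Prop} (hP : ∀ j m, P m → P (comb (mM j) m)) :
    ∀ (L : List (List ℕ)) (S : ℕ), AllBits P S → AllBits P (runs L S)
  | [], _, h => h
  | c :: L, S, h => by
    rw [runs, withVal_eq]
    exact runs_sound hP L _ (run_sound hP c S h)

/-- The bit set of a list. -/
def ofList : List ℕ → ℕ
  | [] => 0
  | a :: L => 1 <<< a ||| ofList L

theorem ofList_spec : ∀ (L : List ℕ) (m : ℕ), (ofList L).testBit m → m ∈ L
  | [], m, h => by simp [ofList] at h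
  | a :: L, m, h => by
    rw [ofList, Nat.testBit_or, Bool.or_eq_true, Nat.one_shiftLeft, Nat.testBit_two_pow, decide_eq_true_eq] at h
    exact List.mem_cons.2 (h.imp Eq.symm (ofList_spec L m))

/-- The seeds without roots. -/
def seedsSmall : List ℕ := [1, 4, 8, 12, 16, 20, 24, 28]

/-- The seeds of the first orbit with roots. -/
def seedsOct : List ℕ := [260, 520, 772, 1040, 1284, 1544, 1796]

/-- The seeds of the second orbit without roots. -/
def seedsDodSmall : List ℕ := [40, 48, 56, 80, 84, 112, 116]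

/-- The seeds of the second orbit with roots. -/
def seedsDodRoot : List ℕ := [256, 262, 512, 522, 768, 774, 1024, 1042, 1280, 1286, 1536, 1546, 1792, 1798]

theorem small_run : runs certSmall (ofList seedsSmall) = smallSet := by decide +kernel

theorem oct_run : runs certOct (smallSet ||| ofList seedsOct) = octSet := by decide +kernel

theorem dod_run : runs certDod (ofList (seedsDodSmall ++ seedsDodRoot)) = dodSet := by decide +kernel

theorem cover : ∀ a < 64, ∀ b < 32, 32 * a + b ≠ 0 → octSet.testBit (32 * a + b) ∨ dodSet.testBit (32 * a + b) := by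
  decide +kernel

/-- The root part of a mask is the sum of the basis vectors selected by its middle bits. -/
def xsum (k : ℕ) : M8 := piSel [x1, x2, x3] k

theorem sel_small : ∀ k < 8, smL (selL topLs k) f0 + f0 = xsum k ∧ qf (xsum k) = 0 ∧ red (xsum k) = xsum k := by
  decide +kernel

theorem xsum_zero : ∀ k < 8, xsum k = 0 → k = 0 := by decide +kernel

theorem piSel_low : ∀ r < 32, inW (piSel lowT r) ∧ bf (piSel lowT r) e0 = 0 ∧ qf (piSel lowT r) = 0 := by
  decide +kernel

theorem small_spec : ∀ k < 8, ∀ r < 32, 32 * k + r ≠ 0 →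
    (smallSet.testBit (32 * k + r) = true ↔
      xsum k = 0 ∨ red (piSel lowT r) = 0 ∨ red (piSel lowT r) = xsum k) := by
  decide +kernel

theorem dodSmall_spec : ∀ m ∈ seedsDodSmall, m < 256 ∧
    ¬ ClassOne (xsum (m / 32)) (red (piSel lowT (m % 32))) := by decide +kernel

/-! ### Moving a vector to the singular point -/

/-- The vectors moved to the singular point. -/
def xOf : ℕ → M8
  | 1 => x1 | 2 => x2 | 3 => x1 + x2 | 4 => x3 | 5 => x1 + x3 | 6 => x2 + x3 | _ => x1 + x2 + x3

/-- Dual vectors of these. -/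
def yOf : ℕ → M8
  | 1 => y1 | 2 => y2 | 3 => y1 | 4 => y3 | 5 => y1 | 6 => y2 | _ => y1

/-- The parameters moving such a vector to the singular point. -/
def toE (t : ℕ) : List (M8 × M8) := [(xOf t, f0), (e0, yOf t)]

theorem toE_ok : ∀ t < 8, okL (toE t) ∧ inPool (toE t) ∧ inPool (toE t).reverse ∧ okL (toE t).reverse := by
  decide +kernel

theorem toE_facts : ∀ t < 8, (t ≠ 0 → sLN (toE t) (encN (xOf t)) = encN e0) ∧
    (∀ x < 256, sLN (toE t ++ (toE t).reverse) x = x) ∧ ∀ x < 16, sLN (toE t) x < 16 := by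
  decide +kernel

theorem inW_encN : ∀ u : M8, inW u ↔ encN u < 16 := by decide +kernel

theorem toE_inW {t : ℕ} (ht : t < 8) {w : M8} (hw : inW w) : inW ((sgL (toE t)).1 w) := by
  rw [inW_encN, sgL_apply _ (toE_ok t ht).1, encN_smL _ (toE_ok t ht).2.1]
  exact (toE_facts t ht).2.2 _ ((inW_encN w).1 hw)

theorem toE_inv {t : ℕ} (ht : t < 8) : (sgL (toE t))⁻¹ = sgL (toE t).reverse := by
  refine inv_eq_of_mul_eq_one_right (ext8 fun m => ?_)
  rw [← sgL_append, sgL_apply _ (fun p hp => ?_), one_apply']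
  · refine encN_inj ?_
    rw [encN_smL _ (fun p hp => ?_), (toE_facts t ht).2.1 _ (encN_lt m)]
    rcases List.mem_append.1 hp with hp | hp
    exacts [(toE_ok t ht).2.1 p hp, (toE_ok t ht).2.2.1 p hp]
  · rcases List.mem_append.1 hp with hp | hp
    exacts [(toE_ok t ht).1 p hp, (toE_ok t ht).2.2.2 p hp]

/-- A vector of the line of a root. -/
def lineVec : ℕ → ℕ
  | 1 => 2 | 2 => 1 | 3 => 4 | 4 => 1 | 5 => 2 | 6 => 1 | _ => 3

theorem line_values : ∀ h < 8, h ≠ 0 → lineVec h < 8 ∧ ∀ i j : Fin 3,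
    bN (sLN (toE (lineVec h) ++ selL topLs (8 * h) ++ (toE (lineVec h)).reverse) (encN (yb i.succ)))
      (encN (yb j.succ)) = 0 := by decide +kernel

theorem mBit_high : ∀ k < 64, (∀ i j : Fin 3, (mBit k i.succ j.succ : ZMod 2) = 0) → k < 8 := by decide +kernel

theorem root_seeds : ∀ m ∈ seedsOct ++ seedsDodRoot, m < 2048 ∧ m / 256 ≠ 0 ∧ m / 32 = 8 * (m / 256) := by
  decide +kernel

/-- The moves making up an element of the complement of the subspace. -/
def qword (k : ℕ) : List (Fin 5) :=
  (if k.testBit 0 then [0] else []) ++ (if k.testBit 1 then [2] else []) ++ (if k.testBit 2 then [3] else []) ++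
    (if k.testBit 3 then [4] else [])

/-- The image of a mask under a word of moves. -/
def applyW : List (Fin 5) → ℕ → ℕ
  | [], m => m
  | j :: w, m => withVal (applyW w m) fun x => comb (mM j) x

theorem oct_noShift : ∀ m ∈ seedsOct, ∀ k < 16, applyW (qword k) m < 2048 ∧ applyW (qword k) m ≠ m ^^^ 1 := by
  decide +kernel

theorem dod_shift : ∀ m ∈ seedsDodRoot, ∃ k < 16, applyW (qword k) m = m ^^^ 1 := by decide +kernel

theorem qword_moves : ∀ k < 16, (qword k).all fun j => decide (j ≠ 1) := by decide +kernel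

/-- The sum of the images of the moves. -/
def wordπ : List (Fin 5) → M8
  | [] => 0
  | j :: w => ![f0, 0, y1, y2, y3] j + wordπ w

theorem qword_π : ∀ u : M8, ∃ k < 16, inW (u + wordπ (qword k)) := by decide +kernel

variable {G : Type*} [Group G] [Finite G] {z : G} {D : Dat z} (B : Base D)

/-- The product of the moves of a word. -/
noncomputable def wordProd : List (Fin 5) → G
  | [] => 1
  | j :: w => mv B j * wordProd w

theorem wordProd_conj (hB : Good B) : ∀ (w : List (Fin 5)) (m : ℕ),
    wordProd B w * phi B m * (wordProd B w)⁻¹ = phi B (applyW w m)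
  | [], m => by simp [wordProd, applyW]
  | j :: w, m => by
    rw [applyW, withVal_eq, wordProd, ← mv_conj hB j, ← wordProd_conj hB w m]
    group

theorem wordProd_Q : ∀ (w : List (Fin 5)), (∀ j ∈ w, j ≠ 1) → Lift D (wordπ w) (wordProd B w)
  | [], _ => ⟨one_mem _, π_one D⟩
  | j :: w, h => by
    obtain ⟨h1, h2⟩ := wordProd_Q w fun i hi => h i (List.mem_cons_of_mem _ hi)
    have hq := mv_mem_Q (B := B) j (h j List.mem_cons_self)
    refine ⟨mul_mem hq h1, ?_⟩
    rw [wordProd, D.π_mul _ hq _ h1, h2, wordπ]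
    congr 1
    have h1' := h j List.mem_cons_self
    fin_cases j
    exacts [B.π_τ, absurd rfl h1', (ay_lift B 0).2, (ay_lift B 1).2, (ay_lift B 2).2]

/-- In the orbit of the central involution under the normaliser. -/
def Oct (hB : Good B) (m : ℕ) : Prop := ∃ n ∈ normalizer (Ab B hB : Set G), n * z * n⁻¹ = phi B m

variable {B}

theorem mv_normalizer (hB : Good B) (j : Fin 5) : mv B j ∈ normalizer (Ab B hB : Set G) :=
  mem_normalizer_of hB fun x hx => by
    obtain ⟨m, -, rfl⟩ := mem_Ab.1 hx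
    rw [mv_conj hB]
    exact phi_mem hB _

theorem Oct.move {hB : Good B} (j : Fin 5) {m : ℕ} (h : Oct B hB m) : Oct B hB (comb (mM j) m) := by
  obtain ⟨n, hn, he⟩ := h
  refine ⟨mv B j * n, mul_mem (mv_normalizer hB j) hn, ?_⟩
  rw [← mv_conj hB j, ← he]
  group

theorem Oct.pull {hB : Good B} {c : G} (hc : c ∈ normalizer (Ab B hB : Set G)) {m m' : ℕ}
    (he : c * phi B m * c⁻¹ = phi B m') (h : Oct B hB m') : Oct B hB m := by
  obtain ⟨n, hn, hn'⟩ := h
  refine ⟨c⁻¹ * n, mul_mem (inv_mem hc) hn, ?_⟩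
  rw [show c⁻¹ * n * z * (c⁻¹ * n)⁻¹ = c⁻¹ * (n * z * n⁻¹) * c by group, hn', ← he]
  group

theorem oct_one (hB : Good B) : Oct B hB 1 := ⟨1, one_mem _, by rw [z_eq_phi]; group⟩

theorem oct_small (hB : Good B) {m : ℕ} (h : smallSet.testBit m) : Oct B hB m := by
  have hstart : AllBits (Oct B hB) (ofList seedsSmall) := by
    have h3 : Oct B hB 3 := Oct.move (hB := hB) 1 (oct_one hB)
    have h2 : Oct B hB 2 := Oct.move (hB := hB) 0 h3
    have key : ∀ (t m : ℕ), t < 8 → t ≠ 0 → m < 32 → piSel lowT m = xOf t → Oct B hB m := by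
      intro t m ht ht0 hm hπ
      obtain ⟨c, hc, hca⟩ := exists_lift_C D (sgL_comm _ (toE_ok t ht).1)
      have hcN := mem_normalizer_of_W hB hc fun w hw => by rw [hca]; exact toE_inW ht hw
      obtain ⟨hq, hqπ⟩ := phi_low B hm
      obtain ⟨hq', hqπ'⟩ := π_conj hc hq
      rw [hqπ, hπ, hca, sgL_apply _ (toE_ok t ht).1,
        smL_val (toE_ok t ht).2.1 ((toE_facts t ht).1 ht0)] at hqπ'
      rcases eq_of_π D B.sQ hq' (B.πs.trans hqπ'.symm) with e | e
      · exact Oct.pull hcN (e.trans (by simp [phi, gens, ev])) h2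
      · refine Oct.pull hcN (m' := 3) (e.trans ?_) h3
        rw [← (D.pre.gen.comm_z _ B.sQ).eq.symm]
        simp [phi, gens, ev]
    intro m hm
    have hmem := ofList_spec _ m hm
    simp only [seedsSmall, List.mem_cons, List.not_mem_nil, or_false] at hmem
    rcases hmem with rfl | rfl | rfl | rfl | rfl | rfl | rfl | rfl
    · exact oct_one hB
    all_goals
      first
        | exact key 1 _ (by norm_num) (by norm_num) (by norm_num) (by decide +kernel)
        | exact key 2 _ (by norm_num) (by norm_num) (by norm_num) (by decide +kernel)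
        | exact key 3 _ (by norm_num) (by norm_num) (by norm_num) (by decide +kernel)
        | exact key 4 _ (by norm_num) (by norm_num) (by norm_num) (by decide +kernel)
        | exact key 5 _ (by norm_num) (by norm_num) (by norm_num) (by decide +kernel)
        | exact key 6 _ (by norm_num) (by norm_num) (by norm_num) (by decide +kernel)
        | exact key 7 _ (by norm_num) (by norm_num) (by norm_num) (by decide +kernel)
  exact (runs_sound (fun j m h => Oct.move j h) certSmall _ hstart) m (small_run.symm ▸ h)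

theorem phi_notQ {m : ℕ} (hm : m < 2048) (h0 : m / 32 ≠ 0) : phi B m ∉ D.Q := fun h => by
  refine h0 (mBit_inj _ (div32_lt hm) fun i j => ?_)
  rw [← phi_matrix B hm, hact_Q h]
  exact (yb_facts i j).1

/-- A mask without roots as a product in the radical. -/
theorem split_small (hB : Good B) {m : ℕ} (hm : m < 256) :
    phi B m = phi B (32 * (m / 32)) * phi B (m % 32) ∧ phi B (32 * (m / 32)) ∈ B.P ∧ phi B (m % 32) ∈ B.A ∧
      red (B.wv (phi B (32 * (m / 32)))) = xsum (m / 32) ∧ red (D.π (phi B (m % 32))) = red (piSel lowT (m % 32)) ∧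
      qf (B.wv (phi B (32 * (m / 32)))) = 0 := by
  have hk : m / 32 < 8 := by omega
  have hP : phi B (32 * (m / 32)) ∈ B.P := by
    have e : phi B (32 * (m / 32)) = ev [bt B (av B 0), bt B (av B 1), bt B (av B 2)] (m / 32) := by
      have h0 : phi B (32 * (m / 32)) = ev ([bt B (av B 0), bt B (av B 1), bt B (av B 2)] ++
          [nv B 0, nv B 1, nv B 2]) (m / 32) := by
        simp only [phi, gens, ev, List.cons_append, List.nil_append,
          show 32 * (m / 32) % 2 = 0 by omega, show 32 * (m / 32) / 2 = 16 * (m / 32) by omega,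
          show 16 * (m / 32) % 2 = 0 by omega, show 16 * (m / 32) / 2 = 8 * (m / 32) by omega,
          show 8 * (m / 32) % 2 = 0 by omega, show 8 * (m / 32) / 2 = 4 * (m / 32) by omega,
          show 4 * (m / 32) % 2 = 0 by omega, show 4 * (m / 32) / 2 = 2 * (m / 32) by omega,
          show 2 * (m / 32) % 2 = 0 by omega, show 2 * (m / 32) / 2 = m / 32 by omega,
          zero_ne_one, if_false, one_mul]
      rw [h0]
      exact ev_take _ _ _ (by simpa using hk)
    rw [e]
    refine ev_mem _ (fun g hg => ?_) _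
    simp only [List.mem_cons, List.not_mem_nil, or_false] at hg
    rcases hg with rfl | rfl | rfl
    exacts [(bt_spec B (sw_xv 0) (av_lift B 0)).1, (bt_spec B (sw_xv 1) (av_lift B 1)).1,
      (bt_spec B (sw_xv 2) (av_lift B 2)).1]
  obtain ⟨ha, haπ⟩ := phi_low B (m := m % 32) (Nat.mod_lt _ (by norm_num))
  have hA : phi B (m % 32) ∈ B.A :=
    B.mem_A.2 ⟨ha, by rw [haπ]; exact (piSel_low _ (Nat.mod_lt _ (by norm_num))).2.1⟩
  obtain ⟨s1, s2, s3⟩ := sel_small _ hk
  have hw : B.wv (phi B (32 * (m / 32))) = xsum (m / 32) := by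
    rw [B.wv_eq hP.2, ← hact_eq hP.2, (hact_phi B _).2, Nat.mul_div_cancel_left _ (by norm_num : 0 < 32),
      sgL_apply _ (topLs_sel _ (by omega)).1, s1]
  refine ⟨?_, hP, hA, by rw [hw, s3], by rw [haπ], by rw [hw, s2]⟩
  rw [← phi_xor hB]
  congr 1
  have := Nat.div_add_mod m 32
  have key : ∀ k < 8, ∀ r < 32, 32 * k + r = (32 * k) ^^^ r := by decide +kernel
  rw [← key _ hk _ (Nat.mod_lt _ (by norm_num))]
  exact this.symm

/-- A root mask is conjugate to one without roots. -/
theorem transport (hB : Good B) {m : ℕ} (hm : m < 2048) (h0 : m / 256 ≠ 0) (h8 : m / 32 = 8 * (m / 256)) :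
    ∃ c ∈ normalizer (Ab B hB : Set G), c ∈ centralizer ({z} : Set G) ∧
      ∃ m' < 256, m' / 32 ≠ 0 ∧ c * phi B m * c⁻¹ = phi B m' := by
  have hh : m / 256 < 8 := by omega
  obtain ⟨ht, hval⟩ := line_values _ hh h0
  obtain ⟨c, hc, hca⟩ := exists_lift_C D (sgL_comm _ (toE_ok _ ht).1)
  have hcN := mem_normalizer_of_W hB hc fun w hw => by rw [hca]; exact toE_inW ht hw
  obtain ⟨m', hm', he⟩ := mem_Ab.1 ((mem_normalizer_iff.1 hcN _).1 (phi_mem hB m))
  obtain ⟨hpC, hpa⟩ := hact_phi B m
  have hn0 : m' / 32 ≠ 0 := by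
    intro h
    refine phi_notQ (B := B) hm (by omega) ?_
    have h1 : phi B m' ∈ D.Q := (phi_low B (m := m') (by omega)).1
    rw [he] at h1
    have h2 := (π_conj (D := D) (inv_mem hc) h1).1
    rwa [show c⁻¹ * (c * phi B m * c⁻¹) * c⁻¹⁻¹ = phi B m by group] at h2
  refine ⟨c, hcN, hc, m', ?_, hn0, he.symm⟩
  suffices m' / 32 < 8 by omega
  refine mBit_high _ (div32_lt hm') fun i j => ?_
  rw [← phi_matrix B hm', he, hact_mul (mul_mem hc hpC) (inv_mem hc), hact_mul hc hpC, hact_inv hc, hca,
    toE_inv ht, hpa, h8, ← sgL_append, ← sgL_append, sgL_apply _ (fun p hp => ?_), bf_yb, encN_smL _ (fun p hp => ?_),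
    hval i j, Nat.cast_zero]
  · rcases List.mem_append.1 hp with hp | hp
    · rcases List.mem_append.1 hp with hp | hp
      exacts [(toE_ok _ ht).2.1 p hp, (topLs_sel _ (by omega)).2 p hp]
    · exact (toE_ok _ ht).2.2.1 p hp
  · rcases List.mem_append.1 hp with hp | hp
    · rcases List.mem_append.1 hp with hp | hp
      exacts [(toE_ok _ ht).1 p hp, (topLs_sel _ (by omega)).1 p hp]
    · exact (toE_ok _ ht).2.2.2 p hp

theorem oct_seed (hB : Good B) {m : ℕ} (hm : m ∈ seedsOct) : Oct B hB m := by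
  obtain ⟨hlt, h0, h8⟩ := root_seeds m (List.mem_append_left _ hm)
  obtain ⟨c, hcN, hcC, m', hm', hn0, he⟩ := transport hB hlt h0 h8
  have hno : ¬ HasZ D (phi B m) := by
    rintro ⟨q, hq, hqe⟩
    obtain ⟨k, hk, hkW⟩ := qword_π (D.π q)
    obtain ⟨h1, h2⟩ := wordProd_Q B (qword k) fun j hj =>
      of_decide_eq_true (List.all_eq_true.1 (qword_moves k hk) j hj)
    obtain ⟨r, -, hr⟩ := phi_inW B (mul_mem (inv_mem h1) hq)
      (by rw [D.π_mul _ (inv_mem h1) _ hq, π_inv D h1, h2, add_comm]; exact hkW)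
    have hq' : q = wordProd B (qword k) * phi B r := by rw [hr, mul_inv_cancel_left]
    have hc := Ab_comm hB (phi_mem hB r) (phi_mem hB m)
    rw [hq', show wordProd B (qword k) * phi B r * phi B m * (wordProd B (qword k) * phi B r)⁻¹ =
      wordProd B (qword k) * (phi B r * phi B m * (phi B r)⁻¹) * (wordProd B (qword k))⁻¹ by group, hc,
      mul_inv_cancel_right, wordProd_conj B hB] at hqe
    obtain ⟨hlt', hne⟩ := oct_noShift m hm k hk
    refine hne (phi_inj hB hlt' (Nat.xor_lt_two_pow (n := 11) hlt (by norm_num)) ?_)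
    rw [hqe, phi_xor hB, z_eq_phi, (mem_centralizer_singleton_iff.1 (hact_phi B m).1)]
  obtain ⟨hsp, hP, hA, hw, hv, -⟩ := split_small hB hm'
  have hno' : ¬ HasZ D (phi B m') := fun h => hno (by
    have := h.conj (inv_mem hcC)
    rw [← he] at this
    rwa [show c⁻¹ * (c * phi B m * c⁻¹) * c⁻¹⁻¹ = phi B m by group] at this)
  have hw0 : xsum (m' / 32) ≠ 0 := fun h => hn0 (xsum_zero _ (by omega) h)
  refine Oct.pull hcN he (oct_small hB ?_)
  have hspec := small_spec (m' / 32) (by omega) (m' % 32) (Nat.mod_lt _ (by norm_num)) (by omega)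
  rw [Nat.div_add_mod] at hspec
  refine hspec.2 (Or.inr ?_)
  by_contra hcon
  push Not at hcon
  refine hno' (hsp ▸ B.hasZ_pair hP hA (by rw [hw]; exact hw0) (by rw [hv]; exact hcon.1) ?_)
  rw [hv, hw]; exact hcon.2

theorem isConj_of_oct {hB : Good B} {m : ℕ} (h : Oct B hB m) : IsConj z (phi B m) := by
  obtain ⟨n, -, he⟩ := h
  exact isConj_iff.2 ⟨n, he⟩

variable (St : Pr B w2 v2) (Su : Pr B x1 x2)

include St Su in
theorem not_conj_seed (hB : Good B) {m : ℕ} (hm : m ∈ seedsDodSmall ++ seedsDodRoot) :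
    ¬ IsConj z (phi B m) := by
  intro hc
  have hsq : ∀ m, phi B m * phi B m = 1 := ev_sq (invList_gens B hB)
  rcases List.mem_append.1 hm with hm | hm
  · obtain ⟨hlt, hno⟩ := dodSmall_spec m hm
    obtain ⟨hsp, hP, hA, hw, hv, -⟩ := split_small hB hlt
    have h := B.classOne_of_conj St Su hP hA (hsp ▸ hsq m) (hsp ▸ hc)
    rw [hw, hv] at h
    exact hno h
  · obtain ⟨hlt, h0, h8⟩ := root_seeds m (List.mem_append_right _ hm)
    obtain ⟨c, -, hcC, m', hm', hn0, he⟩ := transport hB hlt h0 h8
    obtain ⟨k, hk, hkm⟩ := dod_shift m hm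
    have hZ : HasZ D (phi B m) := ⟨_, (wordProd_Q B (qword k) fun j hj =>
        of_decide_eq_true (List.all_eq_true.1 (qword_moves k hk) j hj)).1, by
      rw [wordProd_conj B hB, hkm, phi_xor hB, z_eq_phi, mem_centralizer_singleton_iff.1 (hact_phi B m).1]⟩
    obtain ⟨hsp, hP, hA, hw, hv, hq⟩ := split_small hB hm'
    have hc' : IsConj z (phi B m') := hc.trans (isConj_iff.2 ⟨c, he⟩)
    have h := B.classOne_of_conj St Su hP hA (hsp ▸ hsq m') (hsp ▸ hc')
    have hw0 : red (B.wv (phi B (32 * (m' / 32)))) ≠ 0 := by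
      rw [hw]; exact fun h => hn0 (xsum_zero _ (by omega) h)
    have hS := B.sing_of_singular hP hA hw0 hq (hsp ▸ hsq m') (h.2.2.resolve_left hw0)
    rw [← hsp] at hS
    exact B.not_hasZ_of_sing (hact_phi B m').1 (phi_notQ (B := B) (by omega) hn0) hS (he ▸ hZ.conj hcC)

include St Su in
/-- The trichotomy for masks. -/
theorem classify (hB : Good B) {m : ℕ} (hm : m < 2048) (hm0 : m ≠ 0) :
    (octSet.testBit m ∧ Oct B hB m) ∨ (dodSet.testBit m ∧ ¬ IsConj z (phi B m)) := by
  have hcov := cover (m / 32) (by omega) (m % 32) (Nat.mod_lt _ (by norm_num))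
  rw [Nat.div_add_mod] at hcov
  rcases hcov hm0 with h | h
  · left
    refine ⟨h, (runs_sound (fun j m h => Oct.move j h) certOct _ (fun k hk => ?_)) m (oct_run.symm ▸ h)⟩
    rw [Nat.testBit_or, Bool.or_eq_true] at hk
    rcases hk with hk | hk
    exacts [oct_small hB hk, oct_seed hB (ofList_spec _ _ hk)]
  · right
    refine ⟨h, (runs_sound (P := fun k => ¬ IsConj z (phi B k)) (fun j k hk hj => hk ?_) certDod _
      (fun k hk => not_conj_seed St Su hB (ofList_spec _ _ hk))) m (dod_run.symm ▸ h)⟩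
    exact hj.trans (isConj_iff.2 ⟨(mv B j)⁻¹, by rw [← mv_conj hB j]; group⟩)

end CfsgLib.Co1Golay
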