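import Cfsg.Agent.Co1Golay.Code
import Cfsg.Agent.Solvable.Gaschutz
import Cfsg.Agent.Solvable.Basics

/-!
A complement in a Sylow two-subgroup, hence in the whole normaliser.
-/

set_option autoImplicit false
set_option maxRecDepth 100000
set_option synthInstance.maxSize 4096
set_option linter.style.haveILetI false
set_option linter.unusedSectionVars false

namespace CfsgLib.Co1Golay

open CfsgLib CfsgLib.Quad CfsgLib.Co1Invol Subgroup
open CfsgLib.Golay (comb)

/-- The triangular elements as lists. -/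
def uList : ℕ → List (M8 × M8)
  | 1 => [cp 0] | 2 => [cp 1] | 3 => [cp 0, cp 1] | 4 => [cp 1, cp 0] | 5 => [cp 0, cp 1, cp 0]
  | 6 => [cp 1, cp 0, cp 1] | 7 => [cp 0, cp 1, cp 0, cp 1] | _ => []

theorem uList_ok : ∀ k < 8, okW (uList k) := by decide +kernel

theorem uList_pool : ∀ k < 8, inPool (uList k) ∧ inPool (cp 0 :: uList k) ∧ inPool (cp 1 :: uList k) := by
  decide +kernel

theorem uList_step : ∀ i : Fin 2, ∀ k < 8, ∃ k' < 8, ∀ x < 256,
    sLN (cp i.castSucc :: uList k) x = sLN (uList k') x := by decide +kernel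

/-- The parameters of the commutators with the second transposition of the dual vectors. -/
def botLs : List (List (M8 × M8)) := [[], [], [], [(e0, y1)], [(e0, y2)], [(e0, y3)]]

theorem botLs_sel : ∀ e < 64, okL (selL botLs e) ∧ inPool (selL botLs e) := by decide +kernel

theorem uMap_eq_sm_y : ∀ i : Fin 3, (∀ m : M8, uMap (yv i) m = sm e0 (yv i) m) ∧ okL [(e0, yv i)] := by
  decide +kernel

/-- The probes separating the normal forms. -/
def probes : List ℕ := [1, 2, 4, 8, 16]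

theorem normal_inj : ∀ e < 8, ∀ k < 8, ∀ e' < 8, ∀ k' < 8,
    (probes.all fun x => sLN (selL botLs (8 * e) ++ uList k) x == sLN (selL botLs (8 * e') ++ uList k') x) = true →
      e = e' ∧ k = k' := by decide +kernel

theorem normal_fix : ∀ e < 8, ∀ k < 8,
    (∀ i : Fin 4, sLN (selL botLs (8 * e) ++ uList k) (encN (xb i)) = encN (xb i)) → e = 0 ∧ k = 0 := by
  decide +kernel

theorem probes_mem : ∀ x ∈ probes, ∃ m : M8, encN m = x := by decide +kernel

theorem cp_sq : ∀ i, ∀ x < 256, sLN [cp i, cp i] x = x := by decide +kernel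

theorem kernel_zero : ∀ e < 8, ∀ t < 2, inW (piSel [y1, y2, y3] e + piSel [f0] t) → e = 0 ∧ t = 0 := by
  decide +kernel

theorem kernel_eq : ∀ e < 8, ∀ t < 2, piSel [y1, y2, y3] e = piSel [f0] t → e = 0 ∧ t = 0 := by decide +kernel

variable {G : Type*} [Group G] [Finite G] {z : G} {D : Dat z} (B : Base D)

/-- The generators of the elementary part. -/
noncomputable def eGens : List G := [ay B 0, ay B 1, ay B 2, bt B (ay B 0), bt B (ay B 1), bt B (ay B 2)]

theorem mem_eGens {g : G} : g ∈ eGens B ↔ (∃ i, g = ay B i) ∨ ∃ i, g = bt B (ay B i) := by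
  simp only [eGens, List.mem_cons, List.not_mem_nil, or_false, Fin.exists_fin_succ, Fin.exists_fin_zero]
  tauto

theorem invList_eGens : InvList (eGens B) := by
  have hy : ∀ i j, bf (yv i) (yv j) = 0 := fun i j => (xv_yv_facts.2 i j).2.1
  refine ⟨fun g hg => ?_, fun g hg g' hg' => ?_⟩
  · rcases (mem_eGens B).1 hg with ⟨i, rfl⟩ | ⟨i, rfl⟩
    exacts [(ay_lift B i).sq (sw_yv i).2, bt_sq B (sw_yv i) (ay_lift B i)]
  · rcases (mem_eGens B).1 hg with ⟨i, rfl⟩ | ⟨i, rfl⟩ <;> rcases (mem_eGens B).1 hg' with ⟨j, rfl⟩ | ⟨j, rfl⟩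
    · exact (ay_lift B i).comm (ay_lift B j) (hy i j)
    · exact bt_comm_lift B (sw_yv j) (sw_yv i) (ay_lift B j) (ay_lift B i) (hy i j)
    · exact (bt_comm_lift B (sw_yv i) (sw_yv j) (ay_lift B i) (ay_lift B j) (hy j i)).symm
    · exact bt_comm B (sw_yv i) (sw_yv j) (ay_lift B i) (ay_lift B j) (hy i j)

theorem hact_eGens (e : ℕ) :
    ev (eGens B) e ∈ centralizer ({z} : Set G) ∧ hact D (ev (eGens B) e) = sgL (selL botLs e) := by
  have hq : ∀ i, ay B i ∈ centralizer ({z} : Set G) ∧ hact D (ay B i) = sgL [] :=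
    fun i => ⟨mem_C D (ay_lift B i).1, hact_Q (ay_lift B i).1⟩
  have hb : ∀ i, bt B (ay B i) ∈ centralizer ({z} : Set G) ∧ hact D (bt B (ay B i)) = sgL [(e0, yv i)] :=
    fun i => ⟨(bt_spec B (sw_yv i) (ay_lift B i)).1.2, ext8 fun v => by
      rw [(hact_bt B (sw_yv i) (ay_lift B i)).2, sgL_apply _ (uMap_eq_sm_y i).2, (uMap_eq_sm_y i).1]; rfl⟩
  exact hact_ev _ _ (.cons (hq 0) (.cons (hq 1) (.cons (hq 2) (.cons (hb 0) (.cons (hb 1) (.cons (hb 2)
    .nil)))))) e

theorem invList_τ : InvList [B.τ] := by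
  constructor <;> intro g hg <;> rw [List.mem_singleton] at hg <;> subst hg
  · exact B.τ_sq
  · intro g' hg'; rw [List.mem_singleton] at hg'; rw [hg']

theorem τ_pow_Q (t : ℕ) : Lift D (piSel [f0] t) (ev [B.τ] t) :=
  π_ev _ _ (.cons ⟨B.τ_Q, B.π_τ⟩ .nil) t

/-- The normal form. -/
noncomputable def nf (e t k : ℕ) : G := ev (eGens B) e * ev [B.τ] t * lf B (uList k)

theorem hact_nf {e t k : ℕ} (hk : k < 8) :
    nf B e t k ∈ centralizer ({z} : Set G) ∧ hact D (nf B e t k) = sgL (selL botLs e ++ uList k) := by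
  obtain ⟨h1, h2⟩ := hact_eGens B e
  have h3 := mem_C D (τ_pow_Q B t).1
  obtain ⟨l1, l2, -, -⟩ := lf_spec B (uList_ok k hk)
  refine ⟨mul_mem (mul_mem h1 h3) (B.N_C l1), ?_⟩
  rw [nf, hact_mul (mul_mem h1 h3) (B.N_C l1), hact_mul h1 h3, h2, hact_Q (τ_pow_Q B t).1, mul_one, l2,
    sgL_append]

theorem selL_bot (e : ℕ) : selL botLs e = selL botLs (8 * (e / 8)) := by
  have : ∀ c, selL botLs c = selL [[(e0, y1)], [(e0, y2)], [(e0, y3)]] (c / 8) := fun c => by
    simp only [botLs, selL, ite_self, List.nil_append, Nat.div_div_eq_div_mul]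
  rw [this, this (8 * (e / 8)), Nat.mul_div_cancel_left _ (by norm_num : 0 < 8)]

theorem hact_nf_apply {e t k : ℕ} (he : e < 64) (hk : k < 8) (m : M8) :
    encN ((hact D (nf B e t k)).1 m) = sLN (selL botLs (8 * (e / 8)) ++ uList k) (encN m) := by
  rw [(hact_nf B hk).2, selL_bot e]
  obtain ⟨o1, o2⟩ := botLs_sel (8 * (e / 8)) (by omega)
  rw [sgL_apply, encN_smL]
  · intro p hp
    rcases List.mem_append.1 hp with hp | hp
    exacts [o2 p hp, (uList_pool k hk).1 p hp]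
  · intro p hp
    rcases List.mem_append.1 hp with hp | hp
    exacts [o1 p hp, (uList_ok k hk).ok p hp]

theorem low_π {e : ℕ} (he : e < 8) : Lift D (piSel [y1, y2, y3] e) (ev (eGens B) e) := by
  have h : ev (eGens B) e = ev [ay B 0, ay B 1, ay B 2] e :=
    ev_take [ay B 0, ay B 1, ay B 2] [bt B (ay B 0), bt B (ay B 1), bt B (ay B 2)] e (by simpa using he)
  rw [h]
  exact π_ev _ _ (.cons (ay_lift B 0) (.cons (ay_lift B 1) (.cons (ay_lift B 2) .nil))) e

theorem lf_uList_zero : lf B (uList 0) = 1 :=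
  (lf_unique B (uList_ok 0 (by norm_num)) (one_mem _) (by rw [hact_Q (one_mem _)]; rfl)
    (by rw [mul_one, one_mul]) (by rw [mul_one, one_mul])).symm

theorem cv_sq (i : Fin 3) : cv B i * cv B i = 1 := by
  have h0 : okW ([] : List (M8 × M8)) := fun p hp => by simp at hp
  rw [cv, lf_mul B (cp_ok i) (cp_ok i), lf_congr B ((cp_ok i).append (cp_ok i)) h0 fun m => ?_]
  · exact (lf_unique B h0 (one_mem _) (by rw [hact_Q (one_mem _)]; rfl)
      (by rw [mul_one, one_mul]) (by rw [mul_one, one_mul])).symm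
  · refine smL_eq ?_ ?_ (fun x hx => by rw [List.singleton_append]; exact cp_sq i x hx) m
    · intro p hp
      simp only [List.singleton_append, List.mem_cons, List.not_mem_nil, or_false, or_self] at hp
      exact hp ▸ cp_pool i
    · intro p hp; simp at hp

theorem com_cp : com (cv B 0) (ay B 1) = ay B 0 ∧ com (cv B 1) (ay B 2) = ay B 1 := ⟨rfl, rfl⟩

/-- The first transposition on the last commutator. -/
theorem τ_bt_ay : ∀ i, B.τ * bt B (ay B i) * B.τ⁻¹ = bt B (ay B i) * ay B i := by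
  have hy : ∀ i j, bf (yv i) (yv j) = 0 := fun i j => (xv_yv_facts.2 i j).2.1
  have h0 : B.τ * bt B (ay B 0) * B.τ⁻¹ = bt B (ay B 0) * ay B 0 := by
    obtain ⟨a, -, b, c⟩ := cv_spec B 0
    exact τ_bt B a b c (sw_yv 1) (sw_yv 0) (hy 0 1) (ay_lift B 1) (ay_lift B 0)
  have h1 : B.τ * bt B (ay B 1) * B.τ⁻¹ = bt B (ay B 1) * ay B 1 := by
    obtain ⟨a, -, b, c⟩ := cv_spec B 1
    exact τ_bt B a b c (sw_yv 2) (sw_yv 1) (hy 1 2) (ay_lift B 2) (ay_lift B 1)
  have h2 : B.τ * bt B (ay B 2) * B.τ⁻¹ = bt B (ay B 2) * ay B 2 := by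
    obtain ⟨a, -, b, c⟩ := cv_spec B 2
    have hp : Lift D (yv 2) (com (cv B 2) (ay B 1)) := by
      have h := (ay_lift B 1).lf B (cp_ok 2)
      change Lift D (smL [cp 2] y2 + y2) _ at h
      rwa [cp_disp.2.2, cancel_mid] at h
    have hX := τ_bt B a b c (sw_yv 1) (sw_yv 2) (hy 2 1) (ay_lift B 1) hp
    rcases eq_of_π D (ay_lift B 2).1 hp.1 ((ay_lift B 2).2.trans hp.2.symm) with e | e
    · rwa [e] at hX
    obtain ⟨q, hq⟩ : ∃ q, q = ay B 2 := ⟨_, rfl⟩
    rw [← hq] at e ⊢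
    have hqQ : q ∈ D.Q := hq ▸ (ay_lift B 2).1
    have hqz : q * z = z * q := (D.pre.gen.comm_z q hqQ).eq
    have hqs : q * B.s = B.s * q := hq ▸ (ay_lift B 2).comm ⟨B.sQ, B.πs⟩ (sw_yv 2).perp
    have hbt : bt B (q * z) = bt B q * B.s := by
      have hzz : z⁻¹ = z := inv_eq_of_mul_eq_one_right D.pre.gen.sq
      calc bt B (q * z) = B.τ' * q * B.τ'⁻¹ * (B.τ' * z * B.τ'⁻¹) * z⁻¹ * q⁻¹ := by rw [bt, com]; group
        _ = B.τ' * q * B.τ'⁻¹ * B.s * q⁻¹ := by
          rw [B.τ'_z, hzz]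
          calc B.τ' * q * B.τ'⁻¹ * (B.s * z) * z * q⁻¹ = B.τ' * q * B.τ'⁻¹ * B.s * (z * z) * q⁻¹ := by group
            _ = _ := by rw [D.pre.gen.sq, mul_one]
        _ = bt B q * (q * B.s * q⁻¹) := by rw [bt, com]; group
        _ = bt B q * B.s := by rw [hqs, mul_inv_cancel_right]
    rw [e, hbt, show B.τ * (bt B q * B.s) * B.τ⁻¹ = B.τ * bt B q * B.τ⁻¹ * (B.τ * B.s * B.τ⁻¹) by group,
      B.τ_s] at hX
    refine mul_right_cancel (b := B.s * z) (hX.trans ?_)
    calc bt B q * B.s * (q * z) = bt B q * (B.s * q) * z := by group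
      _ = bt B q * q * (B.s * z) := by rw [← hqs]; group
  intro i
  fin_cases i
  exacts [h0, h1, h2]

variable {B}

theorem Good.cv_fix (hB : Good B) {j i : Fin 3} (hj : j = 0 ∨ j = 1) {t : M8}
    (ht : Sees (gcList j) t 0) (hi : yv i = t) : cv B j * ay B i * (cv B j)⁻¹ = ay B i := by
  subst hi
  rcases hj with rfl | rfl
  · rw [cv, hB.conj_bit (cp_ok 0) gcList_ok.1 (gcList_pool 0) gcList_conj.1 ht (ay_lift B i).1 (ay_lift B i).2,
      if_pos rfl, mul_one]
  · rw [cv, hB.conj_bit (cp_ok 1) gcList_ok.2 (gcList_pool 1) gcList_conj.2 ht (ay_lift B i).1 (ay_lift B i).2,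
      if_pos rfl, mul_one]

theorem bt_fixed {c q : G} (hc : B.τ' * c = c * B.τ') (h : c * q * c⁻¹ = q) :
    c * bt B q * c⁻¹ = bt B q := by
  have h1 : Commute c B.τ' := hc.symm
  have h2 : Commute c q := mul_inv_eq_iff_eq_mul.1 h
  exact mul_inv_eq_iff_eq_mul.2 (((h1.mul_right h2).mul_right h1.inv_right).mul_right h2.inv_right).eq

/-- The matrices on the elementary part. -/
def eM : Fin 3 → List ℕ := ![[1, 2, 4, 9, 18, 36], [1, 3, 4, 8, 24, 32], [1, 2, 6, 8, 16, 48]]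

/-- The elements normalising the elementary part. -/
noncomputable def eX (B : Base D) : Fin 3 → G := ![B.τ, cv B 0, cv B 1]

theorem eX_conj (hB : Good B) (j : Fin 3) (e : ℕ) :
    eX B j * ev (eGens B) e * (eX B j)⁻¹ = ev (eGens B) (comb (eM j) e) := by
  refine conj_ev (invList_eGens B) (eGens B) (eM j) ?_ e
  have hl := invList_eGens B
  have hcomm : ∀ i, bt B (ay B i) * ay B i = ay B i * bt B (ay B i) := fun i =>
    hl.2 _ ((mem_eGens B).2 (Or.inr ⟨i, rfl⟩)) _ ((mem_eGens B).2 (Or.inl ⟨i, rfl⟩))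
  have hy : ∀ i j, bf (yv i) (yv j) = 0 := fun i j => (xv_yv_facts.2 i j).2.1
  obtain ⟨-, -, -, hc0⟩ := cv_spec B 0
  obtain ⟨-, -, -, hc1⟩ := cv_spec B 1
  have f00 : cv B 0 * ay B 0 * (cv B 0)⁻¹ = ay B 0 := hB.cv_fix (Or.inl rfl) sees_c.1 rfl
  have f02 : cv B 0 * ay B 2 * (cv B 0)⁻¹ = ay B 2 := hB.cv_fix (Or.inl rfl) sees_c.2.1 rfl
  have f10 : cv B 1 * ay B 0 * (cv B 1)⁻¹ = ay B 0 := hB.cv_fix (Or.inr rfl) sees_c.2.2.1 rfl
  have f11 : cv B 1 * ay B 1 * (cv B 1)⁻¹ = ay B 1 := hB.cv_fix (Or.inr rfl) sees_c.2.2.2 rfl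
  have m01 : cv B 0 * ay B 1 * (cv B 0)⁻¹ = ay B 0 * ay B 1 := by rw [conj_eq_com, (com_cp B).1]
  have m12 : cv B 1 * ay B 2 * (cv B 1)⁻¹ = ay B 1 * ay B 2 := by rw [conj_eq_com, (com_cp B).2]
  have n01 : cv B 0 * bt B (ay B 1) * (cv B 0)⁻¹ = bt B (ay B 0) * bt B (ay B 1) :=
    c_bt B hc0 (sw_yv 1) (sw_yv 0) (hy 0 1) (ay_lift B 1) (ay_lift B 0)
  have n12 : cv B 1 * bt B (ay B 2) * (cv B 1)⁻¹ = bt B (ay B 1) * bt B (ay B 2) :=
    c_bt B hc1 (sw_yv 2) (sw_yv 1) (hy 1 2) (ay_lift B 2) (ay_lift B 1)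
  fin_cases j
  · show List.Forall₂ (fun g m => B.τ * g * B.τ⁻¹ = ev (eGens B) m) (eGens B) [1, 2, 4, 9, 18, 36]
    refine .cons ?_ (.cons ?_ (.cons ?_ (.cons ?_ (.cons ?_ (.cons ?_ .nil)))))
    all_goals first | rw [τ_lift B (sw_yv _) (ay_lift B _)] | rw [τ_bt_ay, hcomm]
    all_goals simp [eGens, ev]
  · show List.Forall₂ (fun g m => cv B 0 * g * (cv B 0)⁻¹ = ev (eGens B) m) (eGens B) [1, 3, 4, 8, 24, 32]
    refine .cons ?_ (.cons ?_ (.cons ?_ (.cons ?_ (.cons ?_ (.cons ?_ .nil)))))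
    · rw [f00]; simp [eGens, ev]
    · rw [m01]; simp [eGens, ev]
    · rw [f02]; simp [eGens, ev]
    · rw [bt_fixed hc0 f00]; simp [eGens, ev]
    · rw [n01]; simp [eGens, ev]
    · rw [bt_fixed hc0 f02]; simp [eGens, ev]
  · show List.Forall₂ (fun g m => cv B 1 * g * (cv B 1)⁻¹ = ev (eGens B) m) (eGens B) [1, 2, 6, 8, 16, 48]
    refine .cons ?_ (.cons ?_ (.cons ?_ (.cons ?_ (.cons ?_ (.cons ?_ .nil)))))
    · rw [f10]; simp [eGens, ev]
    · rw [f11]; simp [eGens, ev]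
    · rw [m12]; simp [eGens, ev]
    · rw [bt_fixed hc1 f10]; simp [eGens, ev]
    · rw [bt_fixed hc1 f11]; simp [eGens, ev]
    · rw [n12]; simp [eGens, ev]

/-- The normal forms. -/
def IsNF (B : Base D) (x : G) : Prop := ∃ e < 64, ∃ t < 2, ∃ k < 8, nf B e t k = x

/-- The two-subgroup. -/
noncomputable def syl (B : Base D) : Subgroup G :=
  closure {g | g ∈ eGens B ∨ g = B.τ ∨ g = cv B 0 ∨ g = cv B 1}

theorem eGens_mod (e : ℕ) : ev (eGens B) (e % 64) = ev (eGens B) e := by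
  have h := ev_mod (eGens B) e
  have hl : (2 : ℕ) ^ (eGens B).length = 64 := by
    simp only [eGens, List.length_cons, List.length_nil]; norm_num
  rwa [hl] at h

theorem τ_mod (t : ℕ) : ev [B.τ] (t % 2) = ev [B.τ] t := by
  have h := ev_mod [B.τ] t
  simpa using h

theorem isNF_of {e t k : ℕ} (hk : k < 8) : IsNF B (nf B e t k) :=
  ⟨e % 64, Nat.mod_lt _ (by norm_num), t % 2, Nat.mod_lt _ (by norm_num), k, hk, by
    rw [nf, nf, eGens_mod, τ_mod]⟩

theorem isNF_mul (hB : Good B) {g x : G} (hg : g ∈ eGens B ∨ g = B.τ ∨ g = cv B 0 ∨ g = cv B 1)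
    (hx : IsNF B x) : IsNF B (g * x) := by
  obtain ⟨e, -, t, -, k, hk, rfl⟩ := hx
  rcases hg with hg | rfl | hg
  · obtain ⟨i, hi, rfl⟩ := List.mem_iff_getElem.1 hg
    have := isNF_of (B := B) (e := 2 ^ i ^^^ e) (t := t) hk
    rwa [nf, ev_xor _ (invList_eGens B), ev_two_pow _ i hi, mul_assoc ((eGens B)[i]), mul_assoc ((eGens B)[i])] at this
  · have h := eX_conj hB 0 e
    change B.τ * ev (eGens B) e * B.τ⁻¹ = _ at h
    have := isNF_of (B := B) (e := comb (eM 0) e) (t := 1 ^^^ t) hk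
    rw [nf, ← h, ev_xor _ (invList_τ B), show ev [B.τ] 1 = B.τ by simp [ev]] at this
    convert this using 1
    rw [nf]; group
  · have key : ∀ i : Fin 2, g = cv B i.castSucc → eX B i.succ = g → IsNF B (g * nf B e t k) := by
      intro i hgi hgx
      obtain ⟨k', hk', hkk⟩ := uList_step i k hk
      obtain ⟨-, -, hτ, -⟩ := cv_spec B i.castSucc
      have hu : g * lf B (uList k) = lf B (uList k') := by
        rw [hgi, cv, lf_mul B (cp_ok _) (uList_ok k hk), List.singleton_append]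
        refine lf_congr B ((cp_ok _).append (uList_ok k hk)) (uList_ok k' hk') fun m => ?_
        refine smL_eq ?_ (uList_pool k' hk').1 hkk m
        fin_cases i
        exacts [(uList_pool k hk).2.1, (uList_pool k hk).2.2]
      have h := eX_conj hB i.succ e
      rw [hgx] at h
      have htc : g * ev [B.τ] t = ev [B.τ] t * g := ev_comm _ (fun x hx => by
        rw [List.mem_singleton] at hx; subst hx; rw [hgi]; exact hτ.symm) t
      have := isNF_of (B := B) (e := comb (eM i.succ) e) (t := t) hk'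
      rw [nf, ← h, ← hu] at this
      convert this using 1
      rw [nf, show g * ev (eGens B) e * g⁻¹ * ev [B.τ] t * (g * lf B (uList k)) =
        g * ev (eGens B) e * g⁻¹ * (ev [B.τ] t * g) * lf B (uList k) by group, ← htc]
      group
    rcases hg with rfl | rfl
    exacts [key 0 rfl rfl, key 1 rfl rfl]

theorem mem_syl (hB : Good B) {x : G} (hx : x ∈ syl B) : IsNF B x := by
  refine closure_induction_left (p := fun x _ => IsNF B x) ?_ (fun g hg y _ hy => isNF_mul hB hg hy)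
    (fun g hg y _ hy => ?_) hx
  · have := isNF_of (B := B) (e := 0) (t := 0) (k := 0) (by norm_num)
    rwa [nf, ev_zero, ev_zero, one_mul, one_mul, lf_uList_zero] at this
  · have hgg : g * g = 1 := by
      rcases hg with h | rfl | rfl | rfl
      exacts [(invList_eGens B).1 g h, B.τ_sq, cv_sq B 0, cv_sq B 1]
    rw [inv_eq_of_mul_eq_one_right hgg]
    exact isNF_mul hB hg hy

theorem nf_mem_syl {e t k : ℕ} (hk : k < 8) : nf B e t k ∈ syl B := by
  have hgen : ∀ g, (g ∈ eGens B ∨ g = B.τ ∨ g = cv B 0 ∨ g = cv B 1) → g ∈ syl B := fun g hg => subset_closure hg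
  refine mul_mem (mul_mem (ev_mem _ (fun g hg => hgen g (Or.inl hg)) e)
    (ev_mem _ (fun g hg => hgen g (Or.inr (Or.inl (List.mem_singleton.1 hg)))) t)) ?_
  have h0 : cv B 0 ∈ syl B := hgen _ (by tauto)
  have h1 : cv B 1 ∈ syl B := hgen _ (by tauto)
  have hl : ∀ {l l' : List (M8 × M8)}, okW l → okW l' → lf B l ∈ syl B → lf B l' ∈ syl B → lf B (l ++ l') ∈ syl B :=
    fun hl hl' h h' => lf_mul B hl hl' ▸ mul_mem h h'
  have c0 := cp_ok 0
  have c1 := cp_ok 1
  interval_cases k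
  · rw [lf_uList_zero]; exact one_mem _
  · exact h0
  · exact h1
  · exact hl c0 c1 h0 h1
  · exact hl c1 c0 h1 h0
  · exact hl c0 (c1.append c0) h0 (hl c1 c0 h1 h0)
  · exact hl c1 (c0.append c1) h1 (hl c0 c1 h0 h1)
  · exact hl c0 (c1.append (c0.append c1)) h0 (hl c1 (c0.append c1) h1 (hl c0 c1 h0 h1))

theorem nf_inj {e t k e' t' k' : ℕ} (he : e < 64) (ht : t < 2) (hk : k < 8) (he' : e' < 64) (ht' : t' < 2)
    (hk' : k' < 8) (h : nf B e t k = nf B e' t' k') : e = e' ∧ t = t' ∧ k = k' := by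
  obtain ⟨he8, hkk⟩ := normal_inj (e / 8) (by omega) k hk (e' / 8) (by omega) k' hk'
    (List.all_eq_true.2 fun x hx => by
      obtain ⟨m, rfl⟩ := probes_mem x hx
      rw [beq_iff_eq, ← hact_nf_apply B (t := t) he hk, h, hact_nf_apply B he' hk'])
  subst hkk
  have h2 : ev (eGens B) e * ev [B.τ] t = ev (eGens B) e' * ev [B.τ] t' := mul_right_cancel h
  have hd : e ^^^ e' < 8 := by
    have h0 : (e ^^^ e') / 8 = 0 := by
      rw [show (8 : ℕ) = 2 ^ 3 from rfl, Nat.xor_div_two_pow]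
      exact Nat.xor_eq_zero_iff.2 he8
    omega
  have hdt : t ^^^ t' < 2 := Nat.xor_lt_two_pow (n := 1) ht ht'
  have h3 : ev (eGens B) (e ^^^ e') = ev [B.τ] (t ^^^ t') := by
    rw [Nat.xor_comm e e', Nat.xor_comm t t', ev_xor _ (invList_eGens B), ev_xor _ (invList_τ B)]
    calc ev (eGens B) e' * ev (eGens B) e
        = ev (eGens B) e' * (ev (eGens B) e * ev [B.τ] t) * (ev [B.τ] t)⁻¹ := by group
      _ = ev (eGens B) e' * ev (eGens B) e' * ev [B.τ] t' * (ev [B.τ] t)⁻¹ := by rw [h2]; group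
      _ = ev [B.τ] t' * ev [B.τ] t := by
        rw [ev_sq (invList_eGens B), one_mul, inv_eq_of_mul_eq_one_right (ev_sq (invList_τ B) t)]
  have h4 := congrArg D.π h3
  rw [(low_π B hd).2, (τ_pow_Q B _).2] at h4
  obtain ⟨z1, z2⟩ := kernel_eq _ hd _ hdt h4
  exact ⟨Nat.xor_eq_zero_iff.1 z1, Nat.xor_eq_zero_iff.1 z2, rfl⟩

theorem syl_meet (hB : Good B) {x : G} (hx : x ∈ syl B) (hA : x ∈ Ab B hB) : x = 1 := by
  obtain ⟨e, he, t, ht, k, hk, rfl⟩ := mem_syl hB hx
  obtain ⟨m, hm, hme⟩ := mem_Ab.1 hA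
  have hfix : ∀ i, (hact D (nf B e t k)).1 (xb i) = xb i := fun i => by rw [← hme]; exact phi_fix B hm i
  obtain ⟨he8, hk0⟩ := normal_fix (e / 8) (by omega) k hk fun i => by
    rw [← hact_nf_apply B (t := t) he hk, hfix]
  subst hk0
  have he' : e < 8 := by omega
  obtain ⟨hq, hπ⟩ := low_π B he'
  obtain ⟨hq', hπ'⟩ := τ_pow_Q B t
  have hx' : nf B e t 0 = ev (eGens B) e * ev [B.τ] t := by rw [nf, lf_uList_zero, mul_one]
  rw [hx'] at hA ⊢
  have hW : inW (piSel [y1, y2, y3] e + piSel [f0] t) := by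
    rw [← hπ, ← hπ', ← D.π_mul _ hq _ hq']
    refine (inW_iff _).2 ⟨?_, fun i => ?_⟩
    · rw [← B.πs]
      exact (D.comm_iff _ (mul_mem hq hq') _ B.sQ).1
        (Ab_comm hB hA (gens_mem hB ((mem_gens B).2 (Or.inr (Or.inl rfl)))))
    · rw [← (av_lift B i).2]
      exact (D.comm_iff _ (mul_mem hq hq') _ (av_lift B i).1).1
        (Ab_comm hB hA (gens_mem hB ((mem_gens B).2 (Or.inr (Or.inr (Or.inl ⟨i, rfl⟩))))))
  obtain ⟨rfl, rfl⟩ := kernel_zero e he' t ht hW
  rw [ev_zero, ev_zero, one_mul]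

theorem card_syl (hB : Good B) : Nat.card (syl B) = 1024 := by
  let f : Fin 64 × Fin 2 × Fin 8 → syl B := fun p => ⟨nf B p.1 p.2.1 p.2.2, nf_mem_syl p.2.2.2⟩
  have hf : Function.Bijective f := by
    refine ⟨fun p q h => ?_, fun ⟨x, hx⟩ => ?_⟩
    · obtain ⟨h1, h2, h3⟩ := nf_inj p.1.2 p.2.1.2 p.2.2.2 q.1.2 q.2.1.2 q.2.2.2 (congrArg Subtype.val h)
      exact Prod.ext (Fin.ext h1) (Prod.ext (Fin.ext h2) (Fin.ext h3))
    · obtain ⟨e, he, t, ht, k, hk, rfl⟩ := mem_syl hB hx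
      exact ⟨(⟨e, he⟩, ⟨t, ht⟩, ⟨k, hk⟩), rfl⟩
  rw [← Nat.card_congr (Equiv.ofBijective f hf)]
  simp

theorem syl_le (hB : Good B) : syl B ≤ normalizer (Ab B hB : Set G) := by
  refine (closure_le _).2 ?_
  have hay : ∀ i, ay B i ∈ normalizer (Ab B hB : Set G) := fun i => by
    fin_cases i
    exacts [mv_normalizer hB 2, mv_normalizer hB 3, mv_normalizer hB 4]
  have hτ' : B.τ' ∈ normalizer (Ab B hB : Set G) := mv_normalizer hB 1
  have hcW : ∀ i : Fin 3, ∀ x < 16, sLN [cp i] x < 16 := by decide +kernel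
  have hc : ∀ i : Fin 3, cv B i ∈ normalizer (Ab B hB : Set G) := fun i => by
    obtain ⟨h1, h2, -, -⟩ := cv_spec B i
    refine mem_normalizer_of_W hB (B.N_C h1) fun w hw => ?_
    rw [h2, inW_encN, sgL_apply _ (cp_ok i).ok, encN_smL _ (fun p hp => by
      rw [List.mem_singleton] at hp; exact hp ▸ cp_pool i)]
    exact hcW i _ ((inW_encN w).1 hw)
  intro g hg
  rcases hg with hg | rfl | rfl | rfl
  · rcases (mem_eGens B).1 hg with ⟨i, rfl⟩ | ⟨i, rfl⟩
    · exact hay i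
    · exact mul_mem (mul_mem (mul_mem hτ' (hay i)) (inv_mem hτ')) (inv_mem (hay i))
  · exact mv_normalizer hB 0
  · exact hc 0
  · exact hc 1

variable (St : Pr B w2 v2) (Su : Pr B x1 x2)

include St Su in
/-- The extension splits. -/
theorem exists_split (hB : Good B) : ∃ K : Subgroup ↥(normalizer (Ab B hB : Set G)),
    ((Ab B hB).subgroupOf (normalizer (Ab B hB : Set G))).IsComplement' K := by
  set N := normalizer (Ab B hB : Set G)
  set K := (Ab B hB).subgroupOf N with hK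
  set S := (syl B).subgroupOf N with hS
  haveI : K.Normal := normal_in_normalizer
  haveI : IsMulCommutative K :=
    ⟨⟨fun a b => Subtype.ext (Subtype.ext (Ab_comm hB (mem_subgroupOf.1 a.2) (mem_subgroupOf.1 b.2)))⟩⟩
  have hdis : S ⊓ K = ⊥ := by
    rw [eq_bot_iff]
    intro x hx
    exact mem_bot.2 (Subtype.ext (syl_meet hB (mem_subgroupOf.1 hx.1) (mem_subgroupOf.1 hx.2)))
  have hcS : Nat.card S = 1024 := by
    rw [hS, Nat.card_congr (subgroupOfEquivOfLe (syl_le hB)).toEquiv, card_syl hB]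
  have hcK : Nat.card K = 2048 := by
    rw [hK, Nat.card_congr (subgroupOfEquivOfLe (le_normalizer (H := Ab B hB))).toEquiv, card_Ab hB]; norm_num
  have hSN : S ≤ normalizer (K : Set N) := le_normalizer_of_normal (H := K)
  have hU : Nat.card ↥(S ⊔ K) = 1024 * 2048 := by
    rw [CfsgLib.Solvable.card_sup_of_disjoint hSN hdis, hcS, hcK]
  obtain ⟨-, -, -, -, hN⟩ := exists_iso St Su hB
  have hidx : (S ⊔ K).index = 239085 := by
    have h := Subgroup.index_mul_card (S ⊔ K)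
    rw [hU, hN] at h
    omega
  exact CfsgLib.Gaschutz.exists_complement (K := K) (U := S ⊔ K) le_sup_right
    (by rw [hcK, hidx]; norm_num) S le_sup_left hdis (sup_comm _ _)

end CfsgLib.Co1Golay
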